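import Groth.Agent.PnCoh.Combinat
import Mathlib.Algebra.MonoidAlgebra.Basic
import Mathlib.RingTheory.MvPolynomial.Basic

/-!
# Laurent monomials allowed on the intersections of the standard cover of a blow-up of affine space
-/

set_option autoImplicit false
universe u v

namespace Groth.BlowUpVanish.Laurent

variable {A : Type u} [CommRing A] {ι : Type u} [Fintype ι]

/-- Laurent polynomials. -/
abbrev L (A : Type u) [CommRing A] (ι : Type u) : Type u := AddMonoidAlgebra A (ι → ℤ)

/-- A Laurent monomial. -/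
noncomputable def T (A : Type u) [CommRing A] (a : ι → ℤ) : L A ι := AddMonoidAlgebra.single a 1

omit [Fintype ι] in
lemma T_add (a c : ι → ℤ) : T A (a + c) = T A a * T A c := by
  simp [T, AddMonoidAlgebra.single_mul_single]

omit [Fintype ι] in
lemma T_zero : T A (0 : ι → ℤ) = 1 := rfl

omit [Fintype ι] in
lemma isUnit_T (a : ι → ℤ) : IsUnit (T A a) :=
  IsUnit.of_mul_eq_one (T A (-a)) (by rw [← T_add, add_neg_cancel, T_zero])

omit [Fintype ι] in
lemma coeff_mul_T (p : L A ι) (w a : ι → ℤ) : (p * T A w).coeff a = p.coeff (a - w) := by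
  rw [T, AddMonoidAlgebra.coeff_mul_single_eq_coeff_mul (a - w)
    (fun m' _ => ⟨fun h => by rw [← h, add_sub_cancel_right], fun h => by rw [h, sub_add_cancel]⟩),
    mul_one]

/-- Exponents with total degree at least `m`, negative only on `S`. -/
def allowed (m : ℤ) (S : Set ι) : Set (ι → ℤ) := {a | m ≤ ∑ i, a i ∧ ∀ i, a i < 0 → i ∈ S}

lemma allowed_add {m m' : ℤ} {S : Set ι} {a c : ι → ℤ} (ha : a ∈ allowed m S) (hc : c ∈ allowed m' S) :
    a + c ∈ allowed (m + m') S := by
  refine ⟨?_, fun i hi => ?_⟩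
  · simp only [Pi.add_apply, Finset.sum_add_distrib]
    exact add_le_add ha.1 hc.1
  · by_contra h
    have h1 : 0 ≤ a i := le_of_not_gt fun h' => h (ha.2 i h')
    have h2 : 0 ≤ c i := le_of_not_gt fun h' => h (hc.2 i h')
    simp only [Pi.add_apply] at hi
    omega

/-- Combinations of allowed monomials. -/
def Supp (m : ℤ) (S : Set ι) (p : L A ι) : Prop := ∀ a, p.coeff a ≠ 0 → a ∈ allowed m S

lemma supp_single {m : ℤ} {S : Set ι} {a : ι → ℤ} (ha : a ∈ allowed m S) (c : A) :
    Supp m S (AddMonoidAlgebra.single a c) := fun a' h => by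
  rw [AddMonoidAlgebra.coeff_single] at h
  by_cases e : a' = a
  · rw [e]; exact ha
  · exact absurd (Finsupp.single_eq_of_ne e) h

lemma supp_zero {m : ℤ} {S : Set ι} : Supp m S (0 : L A ι) := fun a h => absurd (by simp) h

lemma supp_add {m : ℤ} {S : Set ι} {p q : L A ι} (hp : Supp m S p) (hq : Supp m S q) :
    Supp m S (p + q) := fun a h => by
  by_cases h1 : p.coeff a = 0
  · refine hq a fun h2 => h ?_
    rw [AddMonoidAlgebra.coeff_add, Finsupp.add_apply, h1, h2, add_zero]
  · exact hp a h1

lemma supp_neg {m : ℤ} {S : Set ι} {p : L A ι} (hp : Supp m S p) : Supp m S (-p) := fun a h =>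
  hp a fun h2 => h (by rw [AddMonoidAlgebra.coeff_neg, Finsupp.neg_apply, h2, neg_zero])

lemma supp_mul {m m' : ℤ} {S : Set ι} {p q : L A ι} (hp : Supp m S p) (hq : Supp m' S q) :
    Supp (m + m') S (p * q) := by
  classical
  intro a ha
  by_contra hn
  refine ha ?_
  rw [AddMonoidAlgebra.coeff_mul, Finsupp.sum]
  refine Finset.sum_eq_zero fun a₁ h₁ => ?_
  rw [Finsupp.sum]
  refine Finset.sum_eq_zero fun a₂ h₂ => ?_
  apply if_neg
  intro heq
  apply hn
  rw [← heq]
  exact allowed_add (hp a₁ (Finsupp.mem_support_iff.1 h₁)) (hq a₂ (Finsupp.mem_support_iff.1 h₂))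

/-- Combinations of monomials of nonnegative degree, negative only on `S`, form a subring. -/
def subring (S : Set ι) : Subring (L A ι) where
  carrier := {p | Supp 0 S p}
  zero_mem' := supp_zero
  one_mem' := supp_single (m := 0) (a := 0) ⟨by simp, fun i h => absurd h (lt_irrefl _)⟩ 1
  add_mem' := supp_add
  neg_mem' := supp_neg
  mul_mem' := fun hp hq => by simpa using supp_mul hp hq

lemma supp_mul_T_iff {m : ℤ} {S : Set ι} {w : ι → ℤ} (hw : ∀ i, i ∉ S → w i = 0) {p : L A ι} :
    Supp (m + ∑ i, w i) S (p * T A w) ↔ Supp m S p := by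
  constructor
  · intro h a ha
    obtain ⟨h1, h2⟩ := h (a + w) (by rwa [coeff_mul_T, add_sub_cancel_right])
    refine ⟨?_, fun i hi => ?_⟩
    · simp only [Pi.add_apply, Finset.sum_add_distrib] at h1
      linarith
    · by_contra hiS
      exact hiS (h2 i (by rw [Pi.add_apply, hw i hiS]; omega))
  · intro h a ha
    rw [coeff_mul_T] at ha
    obtain ⟨h1, h2⟩ := h (a - w) ha
    refine ⟨?_, fun i hi => ?_⟩
    · simp only [Pi.sub_apply, Finset.sum_sub_distrib] at h1
      linarith
    · by_contra hiS
      exact hiS (h2 i (by rw [Pi.sub_apply, hw i hiS]; omega))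

variable {σ : Type v} (e : ι ≃ σ)

/-- Exponents of monomials as exponents of Laurent monomials. -/
def expo : (σ →₀ ℕ) →+ (ι → ℤ) where
  toFun b i := b (e i)
  map_zero' := rfl
  map_add' b c := by ext i; simp

omit [Fintype ι] in
lemma expo_injective : Function.Injective (expo e) := fun b c h => Finsupp.ext fun s => by
  have := congrFun h (e.symm s)
  simp only [expo, AddMonoidHom.coe_mk, ZeroHom.coe_mk, Equiv.apply_symm_apply] at this
  exact_mod_cast this

/-- Polynomials as Laurent polynomials. -/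
noncomputable def toL : MvPolynomial σ A →+* L A ι :=
  (AddMonoidAlgebra.mapDomainAlgHom A A (expo e)).toRingHom

omit [Fintype ι] in
lemma toL_injective : Function.Injective (toL (A := A) e) :=
  AddMonoidAlgebra.mapDomain_injective (expo_injective e)

omit [Fintype ι] in
lemma toL_monomial (b : σ →₀ ℕ) (r : A) :
    toL e (MvPolynomial.monomial b r) = AddMonoidAlgebra.single (expo e b) r :=
  AddMonoidAlgebra.mapDomain_single

omit [Fintype ι] in
lemma toL_C (c : A) : toL e (MvPolynomial.C c) = AddMonoidAlgebra.single (0 : ι → ℤ) c :=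
  toL_monomial e 0 c

omit [Fintype ι] in
lemma toL_X [DecidableEq ι] (i : ι) :
    toL (A := A) e (MvPolynomial.X (e i)) = T A (Pi.single i 1) := by
  classical
  refine (toL_monomial e _ 1).trans (congrArg (fun a => AddMonoidAlgebra.single a (1 : A)) ?_)
  funext j
  change ((Finsupp.single (e i) 1 (e j) : ℕ) : ℤ) = _
  by_cases h : j = i
  · simp [h]
  · rw [Pi.single_eq_of_ne h, Finsupp.single_eq_of_ne (e.injective.ne h), Nat.cast_zero]

lemma supp_toL (r : MvPolynomial σ A) : Supp 0 (∅ : Set ι) (toL e r) := by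
  induction r using MvPolynomial.induction_on' with
  | monomial b c =>
    rw [toL_monomial]
    refine supp_single ⟨Finset.sum_nonneg fun i _ => Int.natCast_nonneg _, fun i hi => ?_⟩ c
    exact absurd hi (not_lt.2 (Int.natCast_nonneg _))
  | add p q hp hq => rw [map_add]; exact supp_add hp hq

lemma supp_mono {m : ℤ} {S S' : Set ι} (h : S ⊆ S') {p : L A ι} (hp : Supp m S p) : Supp m S' p :=
  fun a ha => ⟨(hp a ha).1, fun i hi => h ((hp a ha).2 i hi)⟩

lemma supp_toL' (S : Set ι) (r : MvPolynomial σ A) : Supp 0 S (toL e r) :=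
  supp_mono (Set.empty_subset S) (supp_toL e r)

/-- Polynomials without constant term have positive degree. -/
lemma supp_toL_one [DecidableEq ι] {r : MvPolynomial σ A}
    (hr : r ∈ Ideal.span (Set.range fun i : ι => MvPolynomial.X (R := A) (e i))) :
    Supp 1 (∅ : Set ι) (toL e r) := by
  induction hr using Submodule.span_induction with
  | mem z hz =>
    obtain ⟨i, rfl⟩ := hz
    rw [toL_X]
    refine supp_single ⟨by simp, fun j hj => ?_⟩ 1
    by_cases h : j = i
    · subst h; simp at hj
    · simp [Pi.single_eq_of_ne h] at hj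
  | zero => rw [map_zero]; exact supp_zero
  | add p q _ _ hp hq => rw [map_add]; exact supp_add hp hq
  | smul c p _ hp =>
    rw [smul_eq_mul, map_mul]
    simpa using supp_mul (supp_toL e c) hp

/-- Laurent polynomials with nonnegative exponents are polynomials. -/
lemma exists_toL {p : L A ι} (hp : Supp 0 (∅ : Set ι) p) : ∃ r : MvPolynomial σ A, toL e r = p := by
  classical
  have : ∀ a, p.coeff a ≠ 0 → ∃ b : σ →₀ ℕ, expo e b = a := fun a ha => by
    haveI : Fintype σ := Fintype.ofEquiv ι e
    refine ⟨Finsupp.equivFunOnFinite.symm fun s => (a (e.symm s)).toNat, funext fun i => ?_⟩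
    change ((a (e.symm (e i))).toNat : ℤ) = a i
    rw [Equiv.symm_apply_apply]
    exact Int.toNat_of_nonneg (le_of_not_gt fun h => ((hp a ha).2 i h).elim)
  choose B hB using this
  refine ⟨∑ a ∈ p.coeff.support.attach,
    MvPolynomial.monomial (B a.1 (Finsupp.mem_support_iff.1 a.2)) (p.coeff a.1), ?_⟩
  rw [map_sum]
  refine AddMonoidAlgebra.ext ?_
  rw [AddMonoidAlgebra.coeff_sum]
  conv_rhs => rw [← p.coeff.sum_single, Finsupp.sum, ← Finset.sum_attach]
  refine Finset.sum_congr rfl fun a _ => ?_
  rw [toL_monomial, hB, AddMonoidAlgebra.coeff_single]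

end Groth.BlowUpVanish.Laurent
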