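import Groth.Agent.BlowUpVanish.Step
import Groth.Agent.BlowUpVanish.Laurent
import Groth.Agent.HTopHyper.BlowUpProper
import Mathlib.Algebra.MvPolynomial.Basic
import Mathlib.Algebra.Regular.Basic

/-!
# The blow-up of affine space at the origin

The functions on the intersections of the standard cover are the Laurent polynomials of nonnegative
degree whose negative exponents lie on the tuple, so the Čech complex contracts monomial by monomial.
-/

set_option autoImplicit false
set_option backward.isDefEq.respectTransparency.types false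
universe u v

open CategoryTheory CategoryTheory.Limits AlgebraicGeometry TopologicalSpace Opposite
open Groth.BlowUpBasics
open Groth.CohBase (inter inter_le inter_comp)

namespace Groth.BlowUpVanish

/-- Near a principal open off the centre, functions are fractions. -/
theorem Cov.exists_str_eq {R : Type u} [CommRing R] {ι : Type u} {X : Scheme.{u}} {g : ι → R}
    {b : X ⟶ Spec (CommRingCat.of R)} (C : Cov g b)
    (hb : BlowUp.IsBlowUp b (sheafOf (Ideal.span (Set.range g)))) {n : ℕ} (x : Fin (n + 1) → ι)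
    {t : R} (ht : ∀ a, g (x a) ∣ t) (y : Γ(X, C.V x)) :
    ∃ (N : ℕ) (r : R), C.str x t ^ N * y = C.str x r := by
  have hle : b ⁻¹ᵁ PrimeSpectrum.basicOpen t ≤ C.V x := le_iInf fun a => by
    refine le_trans ?_ (C.mem (x a))
    obtain ⟨w, hw⟩ := ht a
    intro z hz
    change b z ∈ PrimeSpectrum.basicOpen t at hz
    rw [hw] at hz
    exact PrimeSpectrum.basicOpen_mul_le_left _ _ hz
  let O : (Spec (CommRingCat.of R)).Opens := PrimeSpectrum.basicOpen t
  have hdisj : Disjoint ((sheafOf (Ideal.span (Set.range g))).support : Set (Spec (CommRingCat.of R)))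
      (O : Set (Spec (CommRingCat.of R))) := by
    rw [Set.disjoint_left]
    intro z hz hzO
    obtain ⟨w, hw⟩ := ht 0
    have h : z ∈ PrimeSpectrum.basicOpen t := hzO
    rw [hw] at h
    exact PrimeSpectrum.basicOpen_mul_le_left (g (x 0)) w h
      ((mem_support_sheafOf _ z).1 hz (Ideal.subset_span ⟨x 0, rfl⟩))
  haveI : IsIso (b ∣_ O) := isIso_morphismRestrict hb O hdisj
  haveI happ : IsIso (b.app O) := Groth.ResolveSurf.PointContraction.isIso_app_of_isIso_restrict b O
  let S := Γ(Spec (CommRingCat.of R), ⊤)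
  let ι₀ : R →+* S := (Scheme.ΓSpecIso (CommRingCat.of R)).inv.hom
  let res₀ : S →+* Γ(Spec (CommRingCat.of R), O) :=
    ((Spec (CommRingCat.of R)).presheaf.map (homOfLE (le_top : O ≤ ⊤)).op).hom
  letI : Algebra S Γ(Spec (CommRingCat.of R), O) := res₀.toAlgebra
  haveI hloc₀ : IsLocalization.Away (ι₀ t) Γ(Spec (CommRingCat.of R), O) :=
    (isAffineOpen_top (Spec (CommRingCat.of R))).isLocalization_of_eq_basicOpen (ι₀ t)
      (homOfLE (le_top : O ≤ ⊤)) (basicOpen_eq_of_affine (R := CommRingCat.of R) t).symm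
  let ρ : Γ(X, C.V x) →+* Γ(X, b ⁻¹ᵁ O) := (X.presheaf.map (homOfLE hle).op).hom
  have hρ : ∀ r : R, ρ (C.str x r) = b.app O (res₀ (ι₀ r)) := fun r => by
    refine (RingHom.congr_fun (phi_restrict b hle) r).symm.trans ?_
    change b.appLE ⊤ (b ⁻¹ᵁ O) _ ((Scheme.ΓSpecIso (CommRingCat.of R)).inv r) = _
    rw [Scheme.Hom.app_eq_appLE]
    exact (ConcreteCategory.congr_hom (Scheme.Hom.map_appLE b (le_refl (b ⁻¹ᵁ O))
      (homOfLE (le_top : O ≤ ⊤)).op) _).symm
  have hbas : X.basicOpen (C.str x t) = b ⁻¹ᵁ O := by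
    have h0 : X.basicOpen (C.str x t) = C.V x ⊓ b ⁻¹ᵁ
        (Spec (CommRingCat.of R)).basicOpen ((Scheme.ΓSpecIso (CommRingCat.of R)).inv t) := by
      rw [Scheme.preimage_basicOpen]
      exact X.basicOpen_res _ (homOfLE (le_top : C.V x ≤ ⊤)).op
    rw [h0, basicOpen_eq_of_affine]
    exact inf_eq_right.2 hle
  letI : Algebra Γ(X, C.V x) Γ(X, b ⁻¹ᵁ O) := ρ.toAlgebra
  haveI : IsLocalization.Away (C.str x t) Γ(X, b ⁻¹ᵁ O) :=
    (C.affine x).isLocalization_of_eq_basicOpen (C.str x t) (homOfLE hle) hbas.symm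
  obtain ⟨z, hz⟩ := (ConcreteCategory.bijective_of_isIso (b.app O)).2 (ρ y)
  obtain ⟨⟨s, ⟨_, k, rfl⟩⟩, hs⟩ := IsLocalization.surj (Submonoid.powers (ι₀ t)) z
  obtain ⟨r, rfl⟩ := (ConcreteCategory.bijective_of_isIso (Scheme.ΓSpecIso (CommRingCat.of R)).inv).2 s
  have h1 : ρ (C.str x t ^ k * y) = ρ (C.str x r) := by
    rw [map_mul, map_pow, hρ, hρ, ← hz, ← map_pow, ← map_mul, mul_comm, ← map_pow res₀]
    exact congrArg (b.app O) hs
  obtain ⟨⟨_, M, rfl⟩, hM⟩ := (IsLocalization.eq_iff_exists (Submonoid.powers (C.str x t))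
    Γ(X, b ⁻¹ᵁ O)).1 (show algebraMap _ Γ(X, b ⁻¹ᵁ O) _ = algebraMap _ _ _ from h1)
  refine ⟨M + k, t ^ M * r, ?_⟩
  rw [map_mul, map_pow, pow_add, mul_assoc]
  exact hM

variable {A : Type u} [CommRing A] {ι : Type u} [Fintype ι] [DecidableEq ι] [Nonempty ι]
  {σ : Type u} (e : ι ≃ σ)

/-- The variables as generators of the centre. -/
noncomputable abbrev vars : ι → MvPolynomial σ A := fun i => MvPolynomial.X (e i)

variable {X : Scheme.{u}} {b : X ⟶ Spec (CommRingCat.of (MvPolynomial σ A))} (C : Cov (vars (A := A) e) b)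
  {h : Spec (CommRingCat.of (Laurent.L A ι)) ⟶ X}
  (hh : h ≫ b = Spec.map (CommRingCat.ofHom (Laurent.toL (A := A) e)))

namespace Base

include hh in
omit [Nonempty ι] in
theorem le_preimage_U (i : ι) : ⊤ ≤ h ⁻¹ᵁ C.U i := fun z _ => by
  refine C.mem i ?_
  change b (h z) ∈ PrimeSpectrum.basicOpen (vars (A := A) e i)
  rw [← Scheme.Hom.comp_apply, hh]
  change Laurent.toL e (MvPolynomial.X (e i)) ∉ z.asIdeal
  rw [Laurent.toL_X]
  exact fun hm => z.isPrime.ne_top (Ideal.eq_top_of_isUnit_mem _ hm (Laurent.isUnit_T _))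

include hh in
omit [Nonempty ι] in
theorem le_preimage_V {n : ℕ} (x : Fin n → ι) : ⊤ ≤ h ⁻¹ᵁ C.V x := fun z _ => by
  have : h z ∈ (C.V x : Set X) := by
    rw [Cov.V, inter, Opens.coe_iInf]
    exact Set.mem_iInter.2 fun a => le_preimage_U e C hh (x a) (x := z) trivial
  exact this

/-- Functions as Laurent polynomials. -/
noncomputable def toLau (h : Spec (CommRingCat.of (Laurent.L A ι)) ⟶ X) (V : X.Opens) (hV : ⊤ ≤ h ⁻¹ᵁ V) :
    Γ(X, V) →+* Laurent.L A ι :=
  (Scheme.ΓSpecIso (CommRingCat.of (Laurent.L A ι))).hom.hom.comp (h.appLE V ⊤ hV).hom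

omit [DecidableEq ι] [Nonempty ι] in
theorem toLau_res {V W : X.Opens} (hWV : W ≤ V) (hW : ⊤ ≤ h ⁻¹ᵁ W) (s : Γ(X, V)) :
    toLau h W hW (X.presheaf.map (homOfLE hWV).op s) =
      toLau h V (hW.trans fun _ hz => hWV hz) s :=
  congrArg (Scheme.ΓSpecIso (CommRingCat.of (Laurent.L A ι))).hom
    (ConcreteCategory.congr_hom (Scheme.Hom.map_appLE h hW (homOfLE hWV).op) s)

include hh in
omit [DecidableEq ι] [Nonempty ι] in
theorem toLau_phi (V : X.Opens) (hV : ⊤ ≤ h ⁻¹ᵁ V) (r : MvPolynomial σ A) :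
    toLau h V hV (phi b V r) = Laurent.toL e r := by
  have h1 : h.appLE V ⊤ hV (phi b V r) = phi (h ≫ b) ⊤ r :=
    ConcreteCategory.congr_hom (Scheme.Hom.appLE_comp_appLE h b ⊤ V ⊤ (le_preimage_top b V) hV) _
  rw [toLau, RingHom.comp_apply]
  refine (congrArg (Scheme.ΓSpecIso (CommRingCat.of (Laurent.L A ι))).hom h1).trans ?_
  rw [hh, phi_Spec, RingHom.comp_apply]
  exact ConcreteCategory.congr_hom (Scheme.ΓSpecIso (CommRingCat.of (Laurent.L A ι))).inv_hom_id _

/-- Functions on an intersection as Laurent polynomials. -/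
noncomputable def Φ {n : ℕ} (x : Fin n → ι) : Γ(X, C.V x) →+* Laurent.L A ι :=
  toLau h (C.V x) (le_preimage_V e C hh x)

omit [Nonempty ι] in
theorem Φ_str {n : ℕ} (x : Fin n → ι) (r : MvPolynomial σ A) :
    Φ e C hh x (C.str x r) = Laurent.toL e r := toLau_phi e hh _ _ r

omit [Nonempty ι] in
theorem Φ_str_X {n : ℕ} (x : Fin n → ι) (i : ι) :
    Φ e C hh x (C.str x (vars e i)) = Laurent.T A (Pi.single i 1) := by
  rw [Φ_str, Laurent.toL_X]

omit [Nonempty ι] in
theorem Φ_face {n : ℕ} (x : Fin (n + 2) → ι) (a : Fin (n + 2)) (s : Γ(X, C.V (x ∘ a.succAbove))) :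
    Φ e C hh x (C.face x a s) = Φ e C hh (x ∘ a.succAbove) s := toLau_res _ _ s

variable (hb : BlowUp.IsBlowUp b (sheafOf (Ideal.span (Set.range (vars (A := A) e)))))

include hb in
omit [Nonempty ι] in
theorem Φ_injective {n : ℕ} (x : Fin (n + 1) → ι) : Function.Injective (Φ e C hh x) := by
  rw [injective_iff_map_eq_zero]
  intro y hy
  obtain ⟨N, r, hr⟩ := C.exists_str_eq hb x (t := ∏ i, vars (A := A) e i)
    (fun a => Finset.dvd_prod_of_mem _ (Finset.mem_univ _)) y
  have hr0 : r = 0 := Laurent.toL_injective e (by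
    rw [← Φ_str e C hh x r, ← hr, map_mul, hy, mul_zero, map_zero])
  rw [hr0, map_zero] at hr
  refine (mul_right_mem_nonZeroDivisors_eq_zero_iff (x := y) (pow_mem ?_ N)).1 ((mul_comm _ _).trans hr)
  rw [map_prod]
  exact Submonoid.prod_mem _ fun i _ => C.str_mem_nonZeroDivisors hb
    ((mem_nonZeroDivisors_iff_right.2 fun _ hz => MvPolynomial.isRegular_X.right.eq_iff.1 (hz.trans (zero_mul _).symm))) x

variable (hC : C.Std)

include hC in
omit [Nonempty ι] in
theorem supp_U (i : ι) (s : Γ(X, C.U i)) :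
    Laurent.Supp 0 {i} (toLau h (C.U i) (le_preimage_U e C hh i) s) := by
  suffices Subring.closure (Set.range (phi b (C.U i)) ∪
      {u | ∃ r ∈ Ideal.span (Set.range (vars (A := A) e)), u * phi b (C.U i) (vars e i) = phi b (C.U i) r}) ≤
      (Laurent.subring {i}).comap (toLau h (C.U i) (le_preimage_U e C hh i)) from this (hC.closure i s)
  rw [Subring.closure_le]
  rintro u (⟨r, rfl⟩ | ⟨r, hr, hu⟩)
  · change Laurent.Supp 0 {i} _
    rw [toLau_phi e hh]
    exact Laurent.supp_toL' e _ r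
  · change Laurent.Supp 0 {i} _
    have h1 := congrArg (toLau h (C.U i) (le_preimage_U e C hh i)) hu
    rw [map_mul, toLau_phi e hh, toLau_phi e hh, Laurent.toL_X] at h1
    refine (Laurent.supp_mul_T_iff (w := Pi.single i 1) fun j hj => Pi.single_eq_of_ne hj 1).1 ?_
    rw [h1, zero_add, Finset.sum_pi_single' i (1 : ℤ) Finset.univ, if_pos (Finset.mem_univ i)]
    exact Laurent.supp_mono (Set.empty_subset _) (Laurent.supp_toL_one e hr)

include hC hh hb in
omit [Nonempty ι] in
theorem supp_V {n : ℕ} (x : Fin (n + 1) → ι) (s : Γ(X, C.V x)) :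
    Laurent.Supp 0 (Set.range x) (Φ e C hh x s) := by
  have hle : C.V x ≤ C.U (x 0) := inter_le (X := X.toTopCat) C.U x 0
  choose u hu hub using fun a => hC.ratio (x 0) (x a)
  set P := ∏ a, u a with hP
  have hbas : C.V x = X.basicOpen P := by
    refine le_antisymm (fun z hz => ?_) (le_iInf fun a => ?_)
    · rw [Scheme.mem_basicOpen X P z (hle hz)]
      have hunit : IsUnit ((X.presheaf.map (homOfLE hle).op) P) := by
        rw [hP, map_prod]
        refine IsUnit.prod_iff.2 fun a _ => ?_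
        obtain ⟨w, hw⟩ := Ideal.mem_span_singleton'.1
          ((C.span_eq x a).symm ▸ Ideal.mem_span_singleton_self (C.str x (vars e (x 0))))
        have h1 : X.presheaf.map (homOfLE hle).op (u a) * C.str x (vars e (x 0)) =
            C.str x (vars e (x a)) := by
          have := congrArg (X.presheaf.map (homOfLE hle).op) (hu a)
          rw [map_mul] at this
          simp only [Cov.str, phi_restrict b hle, RingHom.comp_apply]
          exact this
        refine IsUnit.of_mul_eq_one w ((mul_cancel_right_mem_nonZeroDivisors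
          (C.mem_nonZeroDivisors hb.1 x a)).1 ?_)
        rw [one_mul, mul_assoc, hw, h1]
      have h2 := hunit.map (X.presheaf.germ (C.V x) z hz).hom
      have e' : X.presheaf.germ (C.V x) z hz (X.presheaf.map (homOfLE hle).op P) =
          X.presheaf.germ (C.U (x 0)) z (hle hz) P := X.presheaf.germ_res_apply _ z hz _
      exact e' ▸ h2
    · refine le_trans ?_ (hub a)
      intro z hz
      have hzU : z ∈ C.U (x 0) := X.basicOpen_le P hz
      rw [Scheme.mem_basicOpen X _ z hzU] at hz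
      rw [Scheme.mem_basicOpen X _ z hzU]
      rw [hP, map_prod] at hz
      exact IsUnit.prod_iff.1 hz a (Finset.mem_univ a)
  letI : Algebra Γ(X, C.U (x 0)) Γ(X, C.V x) := (X.presheaf.map (homOfLE hle).op).hom.toAlgebra
  haveI : IsLocalization.Away P Γ(X, C.V x) :=
    (C.affineU (x 0)).isLocalization_of_eq_basicOpen P (homOfLE hle) hbas
  obtain ⟨⟨s₀, ⟨_, N, rfl⟩⟩, hs⟩ := IsLocalization.surj (Submonoid.powers P) s
  have hΦu : ∀ a, toLau h (C.U (x 0)) (le_preimage_U e C hh (x 0)) (u a) =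
      Laurent.T A (Pi.single (x a) 1 - Pi.single (x 0) 1) := fun a => by
    have h1 := congrArg (toLau h (C.U (x 0)) (le_preimage_U e C hh (x 0))) (hu a)
    rw [map_mul, toLau_phi e hh, toLau_phi e hh, Laurent.toL_X, Laurent.toL_X] at h1
    refine (Laurent.isUnit_T (A := A) (Pi.single (x 0) 1)).mul_right_cancel ?_
    rw [h1, ← Laurent.T_add, sub_add_cancel]
  have hPow : ∀ (K : Finset (Fin (n + 1))) (M : ℕ), ∃ w : ι → ℤ, (∑ i, w i = 0) ∧
      (∀ i, i ∉ Set.range x → w i = 0) ∧
      (∏ a ∈ K, toLau h (C.U (x 0)) (le_preimage_U e C hh (x 0)) (u a)) ^ M = Laurent.T A w := by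
    intro K M
    induction M with
    | zero => exact ⟨0, by simp, fun i _ => rfl, by rw [pow_zero, Laurent.T_zero]⟩
    | succ M ih =>
      suffices ∃ w₁ : ι → ℤ, (∑ i, w₁ i = 0) ∧ (∀ i, i ∉ Set.range x → w₁ i = 0) ∧
          ∏ a ∈ K, toLau h (C.U (x 0)) (le_preimage_U e C hh (x 0)) (u a) = Laurent.T A w₁ by
        obtain ⟨w₁, h0, hS, h1⟩ := this
        obtain ⟨w, hw0, hwS, hw⟩ := ih
        refine ⟨w + w₁, by simp [Finset.sum_add_distrib, hw0, h0],
          fun i hi => by simp [hwS i hi, hS i hi], ?_⟩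
        rw [pow_succ, hw, h1, ← Laurent.T_add]
      clear ih
      induction K using Finset.induction with
      | empty => exact ⟨0, by simp, fun i _ => rfl, by rw [Finset.prod_empty, Laurent.T_zero]⟩
      | @insert c K hc ihK =>
        obtain ⟨w₁, h0, hS, h1⟩ := ihK
        refine ⟨Pi.single (x c) 1 - Pi.single (x 0) 1 + w₁, ?_, fun i hi => ?_, ?_⟩
        · simp [Finset.sum_add_distrib, h0]
        · simp only [Pi.add_apply, Pi.sub_apply, hS i hi, add_zero]
          rw [Pi.single_eq_of_ne (fun hc' => hi ⟨c, hc'.symm⟩),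
            Pi.single_eq_of_ne (fun hc' => hi ⟨0, hc'.symm⟩), sub_zero]
        · rw [Finset.prod_insert hc, hΦu, h1, ← Laurent.T_add]
  obtain ⟨w, hw0, hwS, hw⟩ := hPow Finset.univ N
  have h1 := congrArg (Φ e C hh x) hs
  rw [map_mul] at h1
  change Φ e C hh x s * Φ e C hh x (X.presheaf.map (homOfLE hle).op (P ^ N)) =
    Φ e C hh x (X.presheaf.map (homOfLE hle).op s₀) at h1
  rw [Φ, toLau_res, toLau_res, map_pow, hP, map_prod, hw] at h1
  refine (Laurent.supp_mul_T_iff hwS).1 ?_
  rw [Φ, h1, hw0, add_zero]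
  exact Laurent.supp_mono (S := {x 0}) (S' := Set.range x) (by rintro _ rfl; exact ⟨0, rfl⟩) (supp_U e C hh hC (x 0) s₀)

include hC hb in
omit [Nonempty ι] in
/-- Every allowed monomial is a function. -/
theorem exists_T {n : ℕ} (x : Fin (n + 1) → ι) {a : ι → ℤ}
    (ha : a ∈ Laurent.allowed 0 (Set.range x)) : ∃ s, Φ e C hh x s = Laurent.T A a := by
  let Q : AddSubmonoid (ι → ℤ) :=
    { carrier := {c | ∃ s, Φ e C hh x s = Laurent.T A c}
      zero_mem' := ⟨1, map_one _⟩
      add_mem' := fun {c c'} ⟨s, hs⟩ ⟨s', hs'⟩ => ⟨s * s', by rw [map_mul, hs, hs', Laurent.T_add]⟩ }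
  suffices a ∈ Q from this
  have h0 : Pi.single (x 0) 1 ∈ Q := ⟨_, Φ_str_X e C hh x (x 0)⟩
  have hpos : ∀ j, Pi.single j 1 - Pi.single (x 0) 1 ∈ Q := fun j => by
    have hle : C.V x ≤ C.U (x 0) := inter_le (X := X.toTopCat) C.U x 0
    obtain ⟨u, hu, -⟩ := hC.ratio (x 0) j
    refine ⟨X.presheaf.map (homOfLE hle).op u, ?_⟩
    have h1 := congrArg (toLau h (C.U (x 0)) (le_preimage_U e C hh (x 0))) hu
    rw [map_mul, toLau_phi e hh, toLau_phi e hh, Laurent.toL_X, Laurent.toL_X] at h1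
    refine (Laurent.isUnit_T (A := A) (Pi.single (x 0) 1)).mul_right_cancel ?_
    rw [← Laurent.T_add, sub_add_cancel, Φ, toLau_res, h1]
  have hneg : ∀ c, Pi.single (x 0) 1 - Pi.single (x c) 1 ∈ Q := fun c => by
    obtain ⟨w, hw⟩ := Ideal.mem_span_singleton'.1
      ((C.span_eq x c).symm ▸ Ideal.mem_span_singleton_self (C.str x (vars e (x 0))))
    refine ⟨w, ?_⟩
    have h1 := congrArg (Φ e C hh x) hw
    rw [map_mul, Φ_str_X, Φ_str_X] at h1
    refine (Laurent.isUnit_T (A := A) (Pi.single (x c) 1)).mul_right_cancel ?_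
    rw [← Laurent.T_add, sub_add_cancel, h1]
  have hsum : a = (∑ i, a i).toNat • Pi.single (x 0) 1 + ∑ j, a j • (Pi.single j 1 - Pi.single (x 0) 1) := by
    rw [← natCast_zsmul, Int.toNat_of_nonneg ha.1, Finset.sum_smul, ← Finset.sum_add_distrib]
    conv_lhs => rw [← Finset.univ_sum_single a]
    refine Finset.sum_congr rfl fun j _ => ?_
    rw [← smul_add, add_sub_cancel, ← Pi.single_smul, smul_eq_mul, mul_one]
  rw [hsum]
  refine Q.add_mem (Q.nsmul_mem h0 _) (Q.sum_mem fun j _ => ?_)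
  rcases le_or_gt 0 (a j) with hj | hj
  · rw [← Int.toNat_of_nonneg hj, natCast_zsmul]
    exact Q.nsmul_mem (hpos j) _
  · obtain ⟨c, rfl⟩ := ha.2 j hj
    have he : a (x c) • ((Pi.single (x c) 1 : ι → ℤ) - Pi.single (x 0) 1) =
        (-a (x c)).toNat • ((Pi.single (x 0) 1 : ι → ℤ) - Pi.single (x c) 1) := by
      rw [← natCast_zsmul ((Pi.single (x 0) 1 : ι → ℤ) - Pi.single (x c) 1), Int.toNat_of_nonneg (by omega)]
      simp [smul_sub, sub_eq_add_neg, add_comm]
    rw [he]
    exact Q.nsmul_mem (hneg c) _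

include hC hh hb in
omit [Nonempty ι] in
/-- The functions in the `m`-th power of the exceptional ideal. -/
theorem mem_J_iff (m : ℕ) {n : ℕ} (x : Fin (n + 1) → ι) (p : Laurent.L A ι) :
    (∃ s ∈ C.J m x, Φ e C hh x s = p) ↔ Laurent.Supp (m : ℤ) (Set.range x) p := by
  classical
  set w : ι → ℤ := m • Pi.single (x 0) 1 with hw
  have hwS : ∀ i, i ∉ Set.range x → w i = 0 := fun i hi => by
    simp [hw, Pi.single_eq_of_ne (show i ≠ x 0 from fun h' => hi ⟨0, h'.symm⟩)]
  have hwsum : ∑ i, w i = m := by simp [hw, Finset.sum_pi_single', ← Finset.mul_sum]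
  have hpow : Φ e C hh x (C.str x (vars e (x 0)) ^ m) = Laurent.T A w := by
    rw [map_pow, Φ_str_X, hw]
    clear hwsum hwS hw w
    induction m with
    | zero => rw [pow_zero, zero_smul, Laurent.T_zero]
    | succ m ih => rw [pow_succ, ih, add_smul, one_smul, Laurent.T_add]
  constructor
  · rintro ⟨s, hs, rfl⟩
    obtain ⟨y, rfl⟩ := Ideal.mem_span_singleton'.1 hs
    rw [map_mul, hpow, show (m : ℤ) = 0 + ∑ i, w i by rw [hwsum, zero_add]]
    exact (Laurent.supp_mul_T_iff hwS).2 (supp_V e C hh hb hC x y)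
  · intro hp
    set q := p * Laurent.T A (-w) with hq
    have hqp : p = q * Laurent.T A w := by
      rw [hq, mul_assoc, ← Laurent.T_add, neg_add_cancel, Laurent.T_zero, mul_one]
    have hq0 : Laurent.Supp 0 (Set.range x) q := by
      refine (Laurent.supp_mul_T_iff hwS).1 ?_
      rw [← hqp, hwsum, zero_add]
      exact hp
    suffices ∃ y, Φ e C hh x y = q by
      obtain ⟨y, hy⟩ := this
      refine ⟨y * C.str x (vars e (x 0)) ^ m, Ideal.mem_span_singleton'.2 ⟨y, rfl⟩, ?_⟩
      rw [map_mul, hy, hpow, ← hqp]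
    have hsum : q = ∑ c ∈ q.coeff.support, Laurent.toL e (MvPolynomial.C (σ := σ) (q.coeff c)) * Laurent.T A c := by
      refine AddMonoidAlgebra.ext ?_
      rw [AddMonoidAlgebra.coeff_sum]
      conv_lhs => rw [← q.coeff.sum_single, Finsupp.sum]
      refine Finset.sum_congr rfl fun c _ => ?_
      rw [Laurent.toL_C, Laurent.T, AddMonoidAlgebra.single_mul_single, zero_add, mul_one,
        AddMonoidAlgebra.coeff_single]
    rw [hsum]
    refine ⟨∑ c ∈ q.coeff.support.attach, C.str x (MvPolynomial.C (q.coeff c.1)) *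
      (exists_T e C hh hb hC x (hq0 c.1 (Finsupp.mem_support_iff.1 c.2))).choose, ?_⟩
    rw [map_sum, ← Finset.sum_attach q.coeff.support]
    refine Finset.sum_congr rfl fun c _ => ?_
    rw [map_mul, Φ_str, (exists_T e C hh hb hC x (hq0 c.1 (Finsupp.mem_support_iff.1 c.2))).choose_spec]

/-- Coefficients of a cochain. -/
noncomputable def coef {n : ℕ} (s : C.Co n) : PnCoh.Combinat.C A ι (n + 1) :=
  fun x => (Φ e C hh x (s x)).coeff

omit [Nonempty ι] in
theorem coef_d {n : ℕ} (s : C.Co n) :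
    coef e C hh (C.d n s) = PnCoh.Combinat.dL A (n + 1) (coef e C hh s) := by
  funext x
  rw [PnCoh.Combinat.dL_apply, coef, Cov.d_apply, map_sum, AddMonoidAlgebra.coeff_sum]
  refine Finset.sum_congr rfl fun a _ => ?_
  rw [map_zsmul, Φ_face, ← Int.cast_smul_eq_zsmul A, AddMonoidAlgebra.coeff_smul]
  simp [coef]

omit [DecidableEq ι] in
/-- The homotopy preserves allowed monomials. -/
theorem hL_supp {m : ℤ} {q : ℕ} {s : PnCoh.Combinat.C A ι (q + 1)}
    (hs : ∀ x a, s x a ≠ 0 → a ∈ Laurent.allowed m (Set.range x)) (y : Fin q → ι) (a : ι → ℤ)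
    (ha : PnCoh.Combinat.hL q s y a ≠ 0) : a ∈ Laurent.allowed m (Set.range y) := by
  by_cases hg : ∃ k, 0 ≤ a k
  · rw [PnCoh.Combinat.hL_apply_of_good s y hg] at ha
    refine ⟨(hs _ a ha).1, fun i hi => ?_⟩
    obtain ⟨c, hc⟩ := (hs _ a ha).2 i hi
    cases c using Fin.cases with
    | zero =>
      rw [Fin.cons_zero] at hc
      have h' := PnCoh.Combinat.pivot_spec hg
      rw [hc] at h'
      omega
    | succ c => exact ⟨c, by rwa [Fin.cons_succ] at hc⟩
  · exact absurd (PnCoh.Combinat.hL_apply_of_bad s y hg) ha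

include hC hh hb in
theorem exact_base (m : ℕ) : C.Exact m := by
  intro p s hs hds
  have hsupp : ∀ x a, coef e C hh s x a ≠ 0 → a ∈ Laurent.allowed (m : ℤ) (Set.range x) := fun x a ha =>
    (mem_J_iff e C hh hb hC m x _).1 ⟨s x, hs x, rfl⟩ a ha
  have hd : PnCoh.Combinat.dL A (p + 2) (coef e C hh s) = 0 := by
    rw [← coef_d, hds]
    funext x
    simp [coef]
  have key := PnCoh.Combinat.eq_dL_hL hd fun x a hneg => by
    by_contra hne
    have h1 := (hsupp x a hne).1
    have : ∑ i, a i < ∑ _i : ι, (0 : ℤ) := Finset.sum_lt_sum_of_nonempty Finset.univ_nonempty fun i _ => hneg i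
    simp only [Finset.sum_const_zero] at this
    omega
  have hlift : ∀ y : Fin (p + 1) → ι, ∃ t ∈ C.J m y,
      Φ e C hh y t = AddMonoidAlgebra.ofCoeff (PnCoh.Combinat.hL (p + 1) (coef e C hh s) y) := fun y =>
    (mem_J_iff e C hh hb hC m y _).2 fun a ha => hL_supp hsupp y a ha
  choose t htJ ht using hlift
  refine ⟨t, htJ, funext fun x => Φ_injective e C hh hb x (AddMonoidAlgebra.ext ?_)⟩
  change coef e C hh (C.d p t) x = coef e C hh s x
  rw [coef_d, ← congrFun key x]
  refine congrFun (congrArg _ (funext fun y => ?_)) x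
  rw [coef, ht]

include hC hh hb in
theorem glob_base : C.Glob := by
  constructor
  · intro s hs
    let i₀ : ι := Classical.arbitrary ι
    have hd : ∀ i j : ι, Φ e C hh ![i] (s ![i]) = Φ e C hh ![j] (s ![j]) := fun i j => by
      have h0 := congrArg (Φ e C hh ![i, j]) (congrFun hs ![i, j])
      rw [Cov.d_apply, map_sum, Fin.sum_univ_succ, Fin.sum_univ_one] at h0
      simp only [map_zsmul, Φ_face, Pi.zero_apply, map_zero, Fin.val_zero, pow_zero, one_smul, Fin.val_succ, zero_add, pow_one, neg_smul] at h0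
      have e0 : (![i, j] ∘ (0 : Fin 2).succAbove : Fin 1 → ι) = ![j] := funext fun a => by
        rw [Subsingleton.elim a 0]; rfl
      have e1 : (![i, j] ∘ (1 : Fin 2).succAbove : Fin 1 → ι) = ![i] := funext fun a => by
        rw [Subsingleton.elim a 0]; rfl
      rw [map_neg, Φ_face, add_neg_eq_zero] at h0
      erw [e0, e1] at h0
      exact h0.symm
    have hs' : ∀ x : Fin 1 → ι, Φ e C hh x (s x) = Φ e C hh ![i₀] (s ![i₀]) := fun x => by
      rw [show x = ![x 0] from funext fun a => by rw [Subsingleton.elim a 0]; rfl]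
      exact hd _ _
    have hsupp : Laurent.Supp 0 (∅ : Set ι) (Φ e C hh ![i₀] (s ![i₀])) := fun a ha => by
      have hall : ∀ i : ι, a ∈ Laurent.allowed 0 (Set.range (![i] : Fin 1 → ι)) := fun i => by
        rw [hd i₀ i] at ha
        exact supp_V e C hh hb hC ![i] _ a ha
      refine ⟨(hall i₀).1, fun k hk => ?_⟩
      have hk' : ∀ i, i = k := fun i => by
        obtain ⟨c, hc⟩ := (hall i).2 k hk
        rw [← hc, Subsingleton.elim c 0]; rfl
      have := (hall i₀).1
      rw [Finset.sum_eq_single k (fun i _ hi => absurd (hk' i) hi) (by simp)] at this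
      omega
    obtain ⟨r, hr⟩ := Laurent.exists_toL e hsupp
    refine ⟨r, fun x => Φ_injective e C hh hb x ?_⟩
    rw [Φ_str, hr, hs']
  · intro r hr
    refine Laurent.toL_injective e ?_
    rw [← Φ_str e C hh (fun _ : Fin 1 => Classical.arbitrary ι) r, hr, map_zero, map_zero]

end Base

/-- The cover of a blow-up of affine space at the origin, with its torus. -/
theorem exists_cov_vars {X : Scheme.{u}} {b : X ⟶ Spec (CommRingCat.of (MvPolynomial σ A))}
    (hb : BlowUp.IsBlowUp b (sheafOf (Ideal.span (Set.range (vars (A := A) e))))) :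
    ∃ (C : Cov (vars (A := A) e) b) (h : Spec (CommRingCat.of (Laurent.L A ι)) ⟶ X),
      C.Std ∧ h ≫ b = Spec.map (CommRingCat.ofHom (Laurent.toL (A := A) e)) := by
  have : IsProper b := HTopHyper.isProper_of_isBlowUp hb fun U => by
    rw [← Scheme.IdealSheafData.map_ideal _ (U := U) (V := ⟨⊤, isAffineOpen_top _⟩) (le_top (a := U.1)),
      sheafOf_ideal_top]
    exact ((show (Ideal.span (Set.range (vars (A := A) e))).FG from Submodule.fg_span (Set.finite_range _)).map _).map _
  obtain ⟨C, hC⟩ := exists_cov (vars (A := A) e) (Fintype.equivFin ι).symm hb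
  obtain ⟨h, hh, -⟩ := hb.2 _ (Spec.map (CommRingCat.ofHom (Laurent.toL (A := A) e))) (by
    rw [comap_sheafOf_Spec, show (Ideal.span (Set.range (vars (A := A) e))).map (Laurent.toL e) =
      Ideal.span {(1 : Laurent.L A ι)} from ?_]
    · exact isEffCartierIdeal_sheafOf_span (one_mem _)
    · rw [Ideal.span_singleton_one]
      refine Ideal.eq_top_of_isUnit_mem _ (Ideal.mem_map_of_mem _
        (Ideal.subset_span ⟨Classical.arbitrary ι, rfl⟩)) ?_
      rw [Laurent.toL_X]
      exact Laurent.isUnit_T _)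
  exact ⟨C, h, hC, hh⟩

/-- The base case: affine space blown up at the origin. -/
theorem good_vars : Good (MvPolynomial σ A) (vars (A := A) e) := by
  intro X b hb
  obtain ⟨C, h, hC, hh⟩ := exists_cov_vars e hb
  exact ⟨C, Base.exact_base e C hh hb hC, Base.glob_base e C hh hb hC⟩

end Groth.BlowUpVanish
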