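import Groth.Agent.BlowUpVanish.Twist
import Groth.Agent.KoszulLCI.ConormalFree
import Groth.Agent.LocFree.Basic
import Groth.Prelude.Def_RegImm
import Groth.Prelude.Def_Mor2

/-!
# Centres of blow-ups defined by regular immersions
-/

set_option autoImplicit false
set_option backward.isDefEq.respectTransparency.types false
universe u

open CategoryTheory CategoryTheory.Limits AlgebraicGeometry TopologicalSpace Opposite
open RingTheory.Sequence

namespace Groth.BlowUpVanish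

variable {S Y : Scheme.{u}} (i : S ⟶ Y)

theorem nice_of_closed [IsClosedImmersion i]
    (h : ∀ z : S, ∃ V : Y.affineOpens, i z ∈ V.1 ∧ Nice i.ker V) (y : Y) :
    ∃ V : Y.affineOpens, y ∈ V.1 ∧ Nice i.ker V := by
  by_cases hy : y ∈ Set.range i
  · obtain ⟨z, rfl⟩ := hy
    exact h z
  · obtain ⟨_, ⟨V, hV, rfl⟩, hyV, hVU⟩ := Y.isBasis_affineOpens.exists_subset_of_mem_open hy
      i.isClosedEmbedding.isClosed_range.isOpen_compl
    refine ⟨⟨V, hV⟩, hyV, Or.inr ?_⟩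
    rw [Scheme.Hom.support_ker,
      i.isClosedEmbedding.isClosed_range.closure_eq]
    exact Set.disjoint_left.2 fun w hw hwV => hVU hwV hw

theorem nice_of_regImm [IsClosedImmersion i] {d : ℕ} (hd : 1 ≤ d)
    (hi : RegImm.IsRegularImmersionOfCodim .regular d i) (y : Y) :
    ∃ V : Y.affineOpens, y ∈ V.1 ∧ Nice i.ker V := by
  refine nice_of_closed i (fun z => ?_) y
  obtain ⟨U, hz, -, rs, hlen, hrs, hker⟩ := hi.2 z
  refine ⟨U, hz, Or.inl ⟨rs, ?_, IsRegular.toIsWeaklyRegular hrs, ?_⟩⟩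
  · intro h0
    rw [h0] at hlen
    simp only [List.length_nil] at hlen
    omega
  · rw [Scheme.Hom.ker_apply, hker]

theorem nice_of_mor2 (hi : Mor2.IsRegularClosedImmersion i) {d : ℕ} (hd : 1 ≤ d)
    (hC : FlatMod.IsFinLocFreeOfRank d (Omega.conormal i)) (y : Y) :
    ∃ V : Y.affineOpens, y ∈ V.1 ∧ Nice i.ker V := by
  haveI := hi.1
  refine nice_of_closed i (fun z => ?_) y
  obtain ⟨U, hU, hz, rs, hrs, hid⟩ := hi.2 z
  refine ⟨⟨U, hU⟩, hz, Or.inl ⟨rs, ?_, IsRegular.toIsWeaklyRegular hrs, hid⟩⟩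
  rintro rfl
  obtain ⟨O, s, hzO, hs⟩ := Groth.LocFree.isFinLocFreeOfRank_iff.1 hC z
  obtain ⟨O', hO'o, hO'⟩ := i.isClosedEmbedding.isInducing.isOpen_iff.1 O.2
  obtain ⟨a, ha, hza⟩ := hU.exists_basicOpen_le (V := ⟨O', hO'o⟩) ⟨i z, by
    have : z ∈ i ⁻¹' O' := by rw [hO']; exact hzO
    exact this⟩ hz
  let W : Y.affineOpens := ⟨Y.basicOpen a, hU.basicOpen a⟩
  have hW0 : i.ker.ideal W = ⊥ := by
    rw [← i.ker.map_ideal (U := W) (V := ⟨U, hU⟩) (Y.basicOpen_le a), hid, Ideal.ofList_nil,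
      Ideal.map_bot]
  have hWO : i ⁻¹ᵁ W.1 ≤ O := fun w hw => by
    have : w ∈ i ⁻¹' O' := ha hw
    rw [hO'] at this
    exact this
  have hW : Groth.OmegaSheaf.IsConormalChart i W.1 :=
    ⟨W.2, Groth.KoszulReg.isAffineOpen_preimage i W.1 W.2, Groth.KoszulReg.surjective_app i W.1 W.2⟩
  obtain ⟨B⟩ := Groth.KoszulLCI.nonempty_basis_conormal i hW (Fin.elim0 : Fin 0 → _)
    (fun a _ => by rw [Subsingleton.elim a 0]; exact zero_mem _)
    (by rw [← Scheme.Hom.ker_apply i W, hW0, Set.range_eq_empty, Ideal.span_empty])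
  haveI : Subsingleton Γ(Omega.conormal i, i ⁻¹ᵁ W.1) := B.repr.toEquiv.subsingleton
  haveI : Nontrivial Γ(S, i ⁻¹ᵁ W.1) :=
    @RingHom.domain_nontrivial _ _ _ _ (S.presheaf.germ (i ⁻¹ᵁ W.1) z hza).hom inferInstance
  haveI : Nonempty (Fin d) := ⟨⟨0, hd⟩⟩
  exact (not_subsingleton (Fin d → Γ(S, i ⁻¹ᵁ W.1))) ((Equiv.ofBijective _ (hs _ hWO)).subsingleton)

end Groth.BlowUpVanish
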