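import Groth.Agent.BlowUpVanish.Base
import Groth.Agent.BlowUpLCI.BaseChange
import Groth.Agent.KoszulLCI.Regular
import Mathlib.RingTheory.Regular.RegularSequence
import Mathlib.RingTheory.Polynomial.Basic

/-!
# Blow-ups along weakly regular sequences

From affine space over `A` blown up at the origin, cut by `X_l - f_l` one at a time.
-/

set_option autoImplicit false
set_option backward.isDefEq.respectTransparency.types false
universe u

open CategoryTheory CategoryTheory.Limits AlgebraicGeometry TopologicalSpace Opposite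
open Groth.BlowUpBasics RingTheory.Sequence

namespace Groth.BlowUpVanish

theorem isProper_blowUp_span {R : Type u} [CommRing R] {ι : Type u} [Finite ι] (g : ι → R)
    {X : Scheme.{u}} {b : X ⟶ Spec (CommRingCat.of R)}
    (hb : BlowUp.IsBlowUp b (sheafOf (Ideal.span (Set.range g)))) : IsProper b :=
  HTopHyper.isProper_of_isBlowUp hb fun U => by
    rw [← Scheme.IdealSheafData.map_ideal _ (U := U) (V := ⟨⊤, isAffineOpen_top _⟩) (le_top (a := U.1)),
      sheafOf_ideal_top]
    exact ((show (Ideal.span (Set.range g)).FG from Submodule.fg_span (Set.finite_range _)).map _).map _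

/-- A blow-up over a quotient by a regular element sits in a cartesian square. -/
theorem exists_step {R R' : Type u} [CommRing R] [CommRing R'] {ι : Type u} {d : ℕ} (e : Fin d ≃ ι)
    (φ : R →+* R') (hφ : Function.Surjective φ) {c : R} (hker : RingHom.ker φ = Ideal.span {c})
    {g : ι → R} (hK : LCI.IsKoszulRegularSeq R (List.ofFn (g ∘ e)))
    (hK' : LCI.IsKoszulRegularSeq R' (List.ofFn ((φ ∘ g) ∘ e))) {X' : Scheme.{u}}
    {b' : X' ⟶ Spec (CommRingCat.of R')}
    (hb' : BlowUp.IsBlowUp b' (sheafOf (Ideal.span (Set.range (φ ∘ g))))) :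
    ∃ (X : Scheme.{u}) (b : X ⟶ Spec (CommRingCat.of R)) (i : X' ⟶ X),
      BlowUp.IsBlowUp b (sheafOf (Ideal.span (Set.range g))) ∧ IsClosedImmersion i ∧
      IsPullback i b' b (Spec.map (CommRingCat.ofHom φ)) ∧
      i.ker = (sheafOf (Ideal.span {c})).comap b := by
  haveI : Finite ι := Finite.of_equiv _ e
  obtain ⟨X, b, hb⟩ := exists_isBlowUp (Spec (CommRingCat.of R)) (sheafOf (Ideal.span (Set.range g)))
  haveI : IsClosedImmersion (Spec.map (CommRingCat.ofHom φ)) := IsClosedImmersion.spec_of_surjective _ hφ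
  have hrange : Set.range (g ∘ e) = Set.range g := EquivLike.range_comp g e
  have hmap : (Ideal.span (Set.range g)).map φ = Ideal.span (Set.range (φ ∘ g)) := by
    rw [Ideal.map_span, Set.range_comp]
  set s := Spec.map (CommRingCat.ofHom φ) with hs
  have hP : BlowUp.IsBlowUp (pullback.fst s b) (sheafOf (Ideal.span (Set.range (φ ∘ g)))) := by
    rw [← hmap, ← comap_sheafOf_Spec, ← hs]
    refine ⟨?_, fun Y g'' hC => ?_⟩
    · rw [← Scheme.IdealSheafData.comap_comp]
      have h := Groth.BlowUpLCI.isEffCartierIdeal_comap_pullback (g ∘ e) φ hK hK' b (by rwa [hrange])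
      rwa [hrange] at h
    · rw [← Scheme.IdealSheafData.comap_comp] at hC
      obtain ⟨h₀, hh₀, huniq⟩ := hb.2 Y (g'' ≫ s) hC
      refine ⟨pullback.lift g'' h₀ hh₀.symm, pullback.lift_fst _ _ _, fun h' hh' => ?_⟩
      refine pullback.hom_ext (hh'.trans (pullback.lift_fst _ _ _).symm) ?_
      rw [pullback.lift_snd]
      refine huniq _ ?_
      change (h' ≫ pullback.snd s b) ≫ b = g'' ≫ s
      simp only at hh'
      rw [Category.assoc, ← pullback.condition, ← Category.assoc, hh']
  obtain ⟨eX, heX⟩ := exists_iso_of_isBlowUp hb' hP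
  let i : X' ⟶ X := eX.hom ≫ pullback.snd s b
  have H : IsPullback i b' b s :=
    (IsPullback.of_hasPullback s b).flip.of_iso eX.symm (Iso.refl _) (Iso.refl _) (Iso.refl _)
      (by simp [i]) (by simp [← heX]) (by simp) (by simp)
  haveI : IsClosedImmersion i := MorphismProperty.of_isPullback (P := @IsClosedImmersion) H.flip inferInstance
  have hk : i.ker = (sheafOf (Ideal.span {c})).comap b := hker ▸ ker_of_isPullback φ hφ H
  exact ⟨X, b, i, hb, inferInstance, H, hk⟩

/-- The step along a surjection with principal regular kernel. -/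
theorem good_step {R R' : Type u} [CommRing R] [CommRing R'] {ι : Type u} {d : ℕ} (e : Fin d ≃ ι)
    (φ : R →+* R') (hφ : Function.Surjective φ) {c : R} (hker : RingHom.ker φ = Ideal.span {c})
    (hc : c ∈ nonZeroDivisors R) {g : ι → R} (hK : LCI.IsKoszulRegularSeq R (List.ofFn (g ∘ e)))
    {g' : ι → R'} (hg' : φ ∘ g = g') (hK' : LCI.IsKoszulRegularSeq R' (List.ofFn (g' ∘ e)))
    (hG : Good R g) : Good R' g' := by
  subst hg'
  intro X' b' hb'
  obtain ⟨X, b, i, hb, hi, H, hk⟩ := exists_step e φ hφ hker hK hK' hb'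
  obtain ⟨C, hCe, hCg⟩ := hG X b hb
  have hφc : φ c = 0 := RingHom.mem_ker.1 (hker ▸ Ideal.mem_span_singleton_self c)
  exact ⟨C.pullback φ H.w, fun m => exact_pullback φ hb hb'.1 hk hc (hCe m),
    glob_pullback φ hb hk hc hφ hφc (hCe 0) hCg⟩

namespace Chain

open MvPolynomial

variable {A : Type u} [CommRing A] {d : ℕ} (f : Fin d → A)

/-- The variables still present after `l` steps. -/
abbrev σ (d l : ℕ) : Type u := {i : ULift.{u} (Fin d) // l ≤ (i.down : ℕ)}

/-- The generators after `l` steps. -/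
noncomputable def gen (l : ℕ) (i : ULift.{u} (Fin d)) : MvPolynomial (σ.{u} d l) A :=
  if h : l ≤ (i.down : ℕ) then X ⟨i, h⟩ else C (f i.down)

/-- Substituting `f l` for the `l`-th variable. -/
noncomputable def sub (l : ℕ) : MvPolynomial (σ.{u} d l) A →+* MvPolynomial (σ.{u} d (l + 1)) A :=
  eval₂Hom C fun i => if h : l + 1 ≤ (i.1.down : ℕ) then X ⟨i.1, h⟩ else C (f i.1.down)

theorem sub_gen (l : ℕ) : sub f l ∘ gen f l = gen f (l + 1) := by
  funext i
  simp only [Function.comp_apply, gen, sub]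
  by_cases h : l ≤ (i.down : ℕ)
  · rw [dif_pos h, eval₂Hom_X']
  · rw [dif_neg h, dif_neg (by omega), eval₂Hom_C]

/-- The relation killed by the `l`-th substitution. -/
noncomputable def rel {l : ℕ} (hl : l < d) : MvPolynomial (σ.{u} d l) A :=
  X ⟨⟨⟨l, hl⟩⟩, le_rfl⟩ - C (f ⟨l, hl⟩)

theorem sub_surjective (l : ℕ) : Function.Surjective (sub f l) := fun p => by
  refine ⟨rename (fun i => ⟨i.1, by have := i.2; omega⟩) p, ?_⟩
  induction p using MvPolynomial.induction_on with
  | C a => simp [sub]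
  | add p q hp hq => rw [map_add, map_add, hp, hq]
  | mul_X p i hp =>
    rw [map_mul, map_mul, hp, rename_X, sub, eval₂Hom_X', dif_pos i.2]

theorem ker_sub {l : ℕ} (hl : l < d) : RingHom.ker (sub f l) = Ideal.span {rel f hl} := by
  refine le_antisymm (fun p hp => ?_) ?_
  · let ψ : MvPolynomial (σ.{u} d (l + 1)) A →ₐ[A] MvPolynomial (σ.{u} d l) A :=
      rename (fun i => ⟨i.1, by have := i.2; omega⟩)
    have key : ∀ q, q - ψ (sub f l q) ∈ Ideal.span {rel f hl} := by
      intro q
      induction q using MvPolynomial.induction_on with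
      | C a => simp [sub, ψ]
      | add p q hp hq =>
        have := add_mem hp hq
        rw [map_add, map_add]
        convert this using 1
        ring
      | mul_X p i hp =>
        have hX : X i - ψ (sub f l (X i)) ∈ Ideal.span {rel f hl} := by
          by_cases h : l + 1 ≤ (i.1.down : ℕ)
          · simp [sub, ψ, show l < (i.1.down : ℕ) from h]
          · obtain rfl : i = ⟨⟨⟨l, hl⟩⟩, le_rfl⟩ :=
              Subtype.ext (ULift.ext _ _ (Fin.ext (by have := i.2; dsimp only at *; omega)))
            rw [sub, eval₂Hom_X', dif_neg h]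
            simp only [ψ, rename_C]
            exact Ideal.mem_span_singleton_self _
        have := add_mem (Ideal.mul_mem_right (X i) _ hp) (Ideal.mul_mem_left _ (ψ (sub f l p)) hX)
        rw [map_mul, map_mul]
        convert this using 1
        ring
    have := key p
    rwa [RingHom.mem_ker.1 hp, map_zero, sub_zero] at this
  · rw [Ideal.span_singleton_le_iff_mem, RingHom.mem_ker]
    simp [rel, sub]

theorem rel_mem_nonZeroDivisors {l : ℕ} (hl : l < d) :
    rel f hl ∈ nonZeroDivisors (MvPolynomial (σ.{u} d l) A) := by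
  classical
  let k : σ.{u} d l := ⟨⟨⟨l, hl⟩⟩, le_rfl⟩
  let α : MvPolynomial (σ.{u} d l) A →ₐ[A] MvPolynomial (σ.{u} d l) A :=
    aeval fun j => X j + C (if j = k then f ⟨l, hl⟩ else 0)
  let β : MvPolynomial (σ.{u} d l) A →ₐ[A] MvPolynomial (σ.{u} d l) A :=
    aeval fun j => X j - C (if j = k then f ⟨l, hl⟩ else 0)
  have hβα : ∀ p, β (α p) = p := fun p => by
    have h : β.comp α = AlgHom.id A _ := MvPolynomial.algHom_ext fun j => by simp [α, β]
    exact AlgHom.congr_fun h p
  rw [mem_nonZeroDivisors_iff_right]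
  intro p hp
  have h1 := congrArg α hp
  rw [map_mul, map_zero] at h1
  have h2 : α (rel f hl) = X k := by simp [α, rel, k]
  rw [h2] at h1
  rw [← hβα p, (MvPolynomial.isRegular_X.right.eq_iff.1 (h1.trans (zero_mul _).symm)), map_zero]

variable (hf : IsWeaklyRegular A (List.ofFn f))

include hf in
theorem isWeaklyRegular_gen (l : ℕ) :
    IsWeaklyRegular (MvPolynomial (σ.{u} d l) A) (List.ofFn fun i : Fin d => gen f l ⟨i⟩) := by
  classical
  rw [isWeaklyRegular_iff_Fin] at hf ⊢
  intro i
  have hi : (i : ℕ) < d := by simpa using i.2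
  set K : Ideal A := Ideal.span (f '' {j : Fin d | (j : ℕ) < i ∧ (j : ℕ) < l}) with hK
  set S : Set (σ.{u} d l) := {j | (j.1.down : ℕ) < i} with hS
  set J := Ideal.ofList ((List.ofFn fun i : Fin d => gen f l ⟨i⟩).take i) with hJ
  let ψ : MvPolynomial (σ.{u} d l) A →+* MvPolynomial (σ.{u} d l) (A ⧸ K) :=
    eval₂Hom (C.comp (Ideal.Quotient.mk K)) fun j => if j ∈ S then 0 else X j
  have hgen : ∀ j : Fin d, (j : ℕ) < i → gen f l ⟨j⟩ ∈ J := fun j hj => by
    refine Ideal.subset_span (List.mem_take_iff_getElem.2 ⟨j, ?_, ?_⟩)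
    · simp only [List.length_ofFn, lt_min_iff]
      exact ⟨hj, j.2⟩
    · simp
  have hJker : J ≤ RingHom.ker ψ := by
    refine Ideal.span_le.2 fun r hr => ?_
    obtain ⟨j, hj, rfl⟩ := List.mem_take_iff_getElem.1 hr
    simp only [List.length_ofFn, lt_min_iff] at hj
    rw [SetLike.mem_coe, RingHom.mem_ker, List.getElem_ofFn, gen]
    by_cases h : l ≤ j
    · rw [dif_pos h, eval₂Hom_X', if_pos (show _ ∈ S from hj.1)]
    · rw [dif_neg h, eval₂Hom_C, RingHom.comp_apply, Ideal.Quotient.eq_zero_iff_mem.2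
        (Ideal.subset_span (s := f '' {j : Fin d | (j : ℕ) < i ∧ (j : ℕ) < l}) ⟨⟨j, hj.2⟩, ⟨hj.1, Nat.lt_of_not_le h⟩, rfl⟩), map_zero]
  have hkerJ : RingHom.ker ψ ≤ J := by
    intro p hp
    let ε : MvPolynomial (σ.{u} d l) A →+* MvPolynomial (σ.{u} d l) A :=
      eval₂Hom C fun j => if j ∈ S then 0 else X j
    have h1 : ∀ q, q - ε q ∈ J := by
      intro q
      induction q using MvPolynomial.induction_on with
      | C a => simp [ε]
      | add p q hp hq =>
        have := add_mem hp hq
        rw [map_add]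
        convert this using 1
        ring
      | mul_X p j hp =>
        have hX : X j - ε (X j) ∈ J := by
          by_cases h : j ∈ S
          · rw [eval₂Hom_X', if_pos h, sub_zero]
            have := hgen j.1.down h
            rwa [gen, dif_pos j.2] at this
          · simp [ε, if_neg h]
        have := add_mem (Ideal.mul_mem_right (X j) _ hp) (Ideal.mul_mem_left _ (ε p) hX)
        rw [map_mul]
        convert this using 1
        ring
    have h2 : MvPolynomial.map (Ideal.Quotient.mk K) (ε p) = ψ p := by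
      have : (MvPolynomial.map (Ideal.Quotient.mk K)).comp ε = ψ :=
        MvPolynomial.ringHom_ext (fun a => by simp [ε, ψ]) fun j => by
          by_cases h : j ∈ S <;> simp [ε, ψ, h]
      exact RingHom.congr_fun this p
    have h3 : ε p ∈ K.map (C : A →+* MvPolynomial (σ.{u} d l) A) := MvPolynomial.mem_map_C_iff.2 fun m => by
      have := congrArg (MvPolynomial.coeff m) (h2.trans (RingHom.mem_ker.1 hp))
      rwa [coeff_map, coeff_zero, Ideal.Quotient.eq_zero_iff_mem] at this
    have h4 : K.map (C : A →+* MvPolynomial (σ.{u} d l) A) ≤ J := by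
      rw [hK, Ideal.map_span, Ideal.span_le]
      rintro _ ⟨_, ⟨j, ⟨hj, hjl⟩, rfl⟩, rfl⟩
      have := hgen j hj
      rwa [gen, dif_neg (show ¬ l ≤ (j : ℕ) by omega)] at this
    have := add_mem (h1 p) (h4 h3)
    rwa [sub_add_cancel] at this
  have hJeq : J = RingHom.ker ψ := le_antisymm hJker hkerJ
  have hget : (List.ofFn fun i : Fin d => gen f l ⟨i⟩)[i] = gen f l ⟨⟨i, hi⟩⟩ := by simp
  rw [hget, smul_eq_mul, Ideal.mul_top]
  refine IsSMulRegular.of_right_eq_zero_of_smul fun z hz => ?_
  obtain ⟨p, rfl⟩ := Ideal.Quotient.mk_surjective z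
  have h0 : ψ (gen f l ⟨⟨i, hi⟩⟩) * ψ p = 0 := by
    rw [← map_mul, ← RingHom.mem_ker, ← hJeq]
    exact Ideal.Quotient.eq_zero_iff_mem.1 hz
  refine Ideal.Quotient.eq_zero_iff_mem.2 ?_
  rw [hJeq, RingHom.mem_ker]
  by_cases h : l ≤ (i : ℕ)
  · rw [gen, dif_pos h, eval₂Hom_X', if_neg (show _ ∉ S from lt_irrefl (i : ℕ))] at h0
    exact MvPolynomial.isRegular_X.left.eq_iff.1 (h0.trans (mul_zero _).symm)
  · rw [gen, dif_neg h, eval₂Hom_C, RingHom.comp_apply] at h0
    have hreg := hf ⟨i, by simp [hi]⟩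
    have hKi : Ideal.ofList ((List.ofFn f).take i) = K := by
      refine congrArg Ideal.span (Set.ext fun r => ?_)
      simp only [Set.mem_ofPred_eq, List.mem_take_iff_getElem, List.length_ofFn, List.getElem_ofFn,
        lt_min_iff, Set.mem_image]
      constructor
      · rintro ⟨j, hj, rfl⟩
        exact ⟨⟨j, hj.2⟩, ⟨hj.1, show j < l by omega⟩, rfl⟩
      · rintro ⟨j, hj, rfl⟩
        exact ⟨j, ⟨hj.1, j.2⟩, rfl⟩
    have hf' : (List.ofFn f)[(⟨i, by simp [hi]⟩ : Fin (List.ofFn f).length)] = f ⟨i, hi⟩ := by simp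
    rw [hf', smul_eq_mul, Ideal.mul_top, hKi] at hreg
    refine MvPolynomial.ext _ _ fun m => ?_
    rw [coeff_zero]
    refine hreg.right_eq_zero_of_smul ?_
    have h1 := congrArg (MvPolynomial.coeff m) h0
    rwa [coeff_C_mul, coeff_zero] at h1

include hf in
theorem good_gen (hd : 0 < d) (l : ℕ) (hl : l ≤ d) :
    Good (MvPolynomial (σ.{u} d l) A) (gen f l) := by
  induction l with
  | zero =>
    haveI : Nonempty (ULift.{u} (Fin d)) := ⟨⟨⟨0, hd⟩⟩⟩
    let e₀ : ULift.{u} (Fin d) ≃ σ.{u} d 0 :=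
      ⟨fun i => ⟨i, Nat.zero_le _⟩, fun i => i.1, fun _ => rfl, fun _ => rfl⟩
    have h := good_vars (A := A) e₀
    rwa [show gen f 0 = vars (A := A) e₀ from funext fun i => dif_pos (Nat.zero_le _)]
  | succ l ih =>
    exact good_step Equiv.ulift.symm (sub f l) (sub_surjective f l) (ker_sub f (by omega))
      (rel_mem_nonZeroDivisors f (by omega))
      (Groth.KoszulLCI.isKoszulRegularSeq_of_isWeaklyRegular (isWeaklyRegular_gen f hf l))
      (sub_gen f l)
      (Groth.KoszulLCI.isKoszulRegularSeq_of_isWeaklyRegular (isWeaklyRegular_gen f hf (l + 1)))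
      (ih (by omega))

end Chain

/-- The blow-up of `Spec A` along a nonempty weakly regular sequence. -/
theorem good_of_isWeaklyRegular {A : Type u} [CommRing A] {d : ℕ} (hd : 0 < d) (f : Fin d → A)
    (hf : IsWeaklyRegular A (List.ofFn f)) : Good A (f ∘ ULift.down.{u}) := by
  obtain ⟨l, rfl⟩ : ∃ l, d = l + 1 := ⟨d - 1, by omega⟩
  haveI : IsEmpty (Chain.σ.{u} (l + 1) (l + 1)) := ⟨fun i => absurd i.2 (by have := i.1.down.2; omega)⟩
  let ev : MvPolynomial (Chain.σ.{u} (l + 1) (l + 1)) A ≃+* A :=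
    (MvPolynomial.isEmptyAlgEquiv A _).toRingEquiv
  have hev : ev.toRingHom ∘ Chain.gen f (l + 1) = f ∘ ULift.down.{u} := funext fun i => by
    simp only [Function.comp_apply, Chain.gen]
    rw [dif_neg (show ¬ l + 1 ≤ (i.down : ℕ) by have := i.down.2; omega)]
    simp [ev]
    exact MvPolynomial.coeff_zero_C _
  refine good_step Equiv.ulift.symm (ev.toRingHom.comp (Chain.sub f l))
    (ev.surjective.comp (Chain.sub_surjective f l)) ?_ (Chain.rel_mem_nonZeroDivisors f (Nat.lt_succ_self l))
    (Groth.KoszulLCI.isKoszulRegularSeq_of_isWeaklyRegular (Chain.isWeaklyRegular_gen f hf l))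
    (by rw [RingHom.coe_comp, Function.comp_assoc, Chain.sub_gen, hev])
    (Groth.KoszulLCI.isKoszulRegularSeq_of_isWeaklyRegular (by exact hf))
    (Chain.good_gen f hf hd l (Nat.le_succ l))
  rw [RingHom.ker_comp_of_injective _ ev.injective, Chain.ker_sub]

end Groth.BlowUpVanish
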