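import Groth.Agent.BlowUpVanish.Chain

/-!
# Čech vanishing for the inverse of the exceptional ideal

The inverse of the exceptional ideal, multiplied by one of the generators `c` of the centre, is the
ideal of the functions `s` with `s * g ∈ (c)`.
-/

set_option autoImplicit false
set_option backward.isDefEq.respectTransparency.types false
universe u

open CategoryTheory CategoryTheory.Limits AlgebraicGeometry TopologicalSpace Opposite
open Groth.BlowUpBasics RingTheory.Sequence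
open Groth.CohBase (inter inter_le inter_comp)

namespace Groth.BlowUpVanish

namespace Cov

variable {R : Type u} [CommRing R] {ι : Type u} {X : Scheme.{u}} {g : ι → R}
  {b : X ⟶ Spec (CommRingCat.of R)} (C : Cov g b) (i₁ : ι)

/-- Cochains in the colon of `g i₁` by the exceptional ideal. -/
def InK {n : ℕ} (s : C.Co n) : Prop := ∀ x, C.str x (g i₁) ∣ s x * C.str x (g (x 0))

/-- Vanishing of Čech cohomology of the inverse of the exceptional ideal. -/
def ExactK : Prop :=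
  ∀ (p : ℕ) (s : C.Co (p + 1)), C.InK i₁ s → C.d (p + 1) s = 0 →
    ∃ t : C.Co p, C.InK i₁ t ∧ C.d p t = s

lemma dvd_str {n : ℕ} (x : Fin (n + 1) → ι) : C.str x (g (x 0)) ∣ C.str x (g i₁) := by
  have h := C.gen (x 0) ⟨C.V x, C.affine x⟩ (inter_le (X := X.toTopCat) C.U x 0)
  rw [ideal_comap_sheafOf] at h
  exact Ideal.mem_span_singleton.1 (h ▸ Ideal.mem_map_of_mem _ (Ideal.subset_span ⟨i₁, rfl⟩))

lemma inK_d {n : ℕ} {s : C.Co n} (hs : C.InK i₁ s) : C.InK i₁ (C.d n s) := fun x => by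
  rw [d_apply, Finset.sum_mul]
  refine Finset.dvd_sum fun a _ => ?_
  rw [zsmul_eq_mul, mul_assoc]
  refine dvd_mul_of_dvd_right ?_ _
  obtain ⟨w, hw⟩ := hs (x ∘ a.succAbove)
  obtain ⟨k, hk⟩ := Ideal.mem_span_singleton'.1
    ((C.span_eq x (a.succAbove 0)).symm ▸ Ideal.mem_span_singleton_self (C.str x (g (x 0))))
  have h1 := congrArg (C.face x a) hw
  rw [map_mul, map_mul, C.face_str, C.face_str] at h1
  refine ⟨k * C.face x a w, ?_⟩
  change _ * C.str x (g (x 0)) = _
  simp only [Function.comp_apply] at h1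
  rw [← hk, mul_left_comm, h1]
  ring

end Cov

section Step

variable {R R' : Type u} [CommRing R] [CommRing R'] (φ : R →+* R') {ι : Type u} {g : ι → R}
  {X X' : Scheme.{u}} {b : X ⟶ Spec (CommRingCat.of R)} {b' : X' ⟶ Spec (CommRingCat.of R')}
  {i : X' ⟶ X} [IsClosedImmersion i] {C : Cov g b}
  {w : i ≫ b = b' ≫ Spec.map (CommRingCat.ofHom φ)} {c : R} {i₁ : ι}

/-- The step for the inverse of the exceptional ideal. -/
theorem exactK_pullback (hb : BlowUp.IsBlowUp b (sheafOf (Ideal.span (Set.range g))))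
    (hb' : BlowUp.IsBlowUp b' (sheafOf (Ideal.span (Set.range (φ ∘ g)))))
    (hk : i.ker = (sheafOf (Ideal.span {c})).comap b) (hc : c ∈ nonZeroDivisors R)
    (hc' : φ (g i₁) ∈ nonZeroDivisors R')
    (hC : C.ExactK i₁) : (C.pullback φ w).ExactK i₁ := by
  intro p s hs hds
  choose q hq using fun (n : ℕ) (x : Fin (n + 1) → ι) => C.dvd_str i₁ x
  have hg' : ∀ {n : ℕ} (x : Fin (n + 1) → ι),
      (C.pullback φ w).str x (φ (g (x 0))) ∈ nonZeroDivisors Γ(X', (C.pullback φ w).V x) := fun x =>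
    (C.pullback φ w).mem_nonZeroDivisors hb'.1 x 0
  have hlift : ∀ x, ∃ y : Γ(X, C.V x),
      C.str x (g i₁) ∣ y * C.str x (g (x 0)) ∧ resHom φ C w x y = s x := fun x => by
    obtain ⟨t', ht⟩ := hs x
    obtain ⟨t, rfl⟩ := resHom_surjective φ C w x t'
    refine ⟨q _ x * t, ⟨t, by rw [hq _ x]; ring⟩, ?_⟩
    refine (mul_cancel_right_mem_nonZeroDivisors (hg' x)).1 ?_
    have h1 := congrArg (resHom φ C w x) (hq _ x)
    rw [resHom_str, map_mul, resHom_str] at h1
    refine Eq.trans ?_ ht.symm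
    rw [map_mul, Function.comp_apply, h1]
    ring
  choose s₁ hs₁ hs₁' using hlift
  have hr : ∀ x, ∃ v, C.str x (g i₁) ∣ v * C.str x (g (x 0)) ∧
      C.d (p + 1) s₁ x = C.str x c * v := fun x => by
    obtain ⟨u, hu⟩ := C.inK_d i₁ hs₁ x
    have h0 : resHom φ C w x (C.d (p + 1) s₁ x) = 0 := by
      have := congrFun (resCo_d φ C w s₁) x
      rw [show resCo φ C w s₁ = s from funext hs₁', hds] at this
      exact this
    have h1 := congrArg (resHom φ C w x) hu
    rw [map_mul, h0, zero_mul, map_mul, resHom_str] at h1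
    obtain ⟨u', rfl⟩ := (resHom_eq_zero φ hk x).1 ((mul_left_mem_nonZeroDivisors_eq_zero_iff
      ((C.pullback φ w).str_mem_nonZeroDivisors hb' hc' x)).1 h1.symm)
    refine ⟨q _ x * u', ⟨u', by rw [hq _ x]; ring⟩, ?_⟩
    refine (mul_cancel_right_mem_nonZeroDivisors (C.mem_nonZeroDivisors hb.1 x 0)).1 ?_
    rw [hu, hq _ x]
    ring
  choose r hrK hr using hr
  have hcancel : ∀ {n : ℕ} {u v : C.Co n}, C.mulR c u = C.mulR c v → u = v := fun {n} {u v} h =>
    funext fun x => (mul_cancel_left_mem_nonZeroDivisors (C.str_mem_nonZeroDivisors hb hc x)).1 (congrFun h x)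
  have hd : C.d (p + 1) s₁ = C.mulR c r := funext hr
  have hdr : C.d (p + 2) r = 0 := by
    refine hcancel ?_
    rw [← C.d_mulR, ← hd, Cov.d_d]
    funext x
    exact (mul_zero _).symm
  obtain ⟨v, hvK, hv⟩ := hC (p + 1) r hrK hdr
  let s₂ : C.Co (p + 1) := s₁ - C.mulR c v
  have hs₂ : C.InK i₁ s₂ := fun x => by
    change _ ∣ (s₁ x - C.str x c * v x) * _
    rw [sub_mul, mul_assoc]
    exact dvd_sub (hs₁ x) (dvd_mul_of_dvd_right (hvK x) _)
  have hds₂ : C.d (p + 1) s₂ = 0 := by rw [map_sub, C.d_mulR, hv, hd, sub_self]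
  obtain ⟨t, htK, ht⟩ := hC p s₂ hs₂ hds₂
  refine ⟨resCo φ C w t, fun x => ?_, ?_⟩
  · obtain ⟨u, hu⟩ := htK x
    refine ⟨resHom φ C w x u, ?_⟩
    have h1 := congrArg (resHom φ C w x) hu
    rw [map_mul, map_mul, resHom_str, resHom_str] at h1
    exact h1
  · rw [← resCo_d, ht]
    funext x
    change resHom φ C w x (s₁ x - C.str x c * v x) = _
    rw [map_sub, hs₁', (resHom_eq_zero φ hk x).2 (dvd_mul_right _ _), sub_zero]

end Step

namespace Base

variable {A : Type u} [CommRing A] {ι : Type u} [Fintype ι] [DecidableEq ι] [Nonempty ι]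
  {σ : Type u} (e : ι ≃ σ) {X : Scheme.{u}} {b : X ⟶ Spec (CommRingCat.of (MvPolynomial σ A))}
  (C : Cov (vars (A := A) e) b) {h : Spec (CommRingCat.of (Laurent.L A ι)) ⟶ X}
  (hh : h ≫ b = Spec.map (CommRingCat.ofHom (Laurent.toL (A := A) e)))
  (hb : BlowUp.IsBlowUp b (sheafOf (Ideal.span (Set.range (vars (A := A) e))))) (hC : C.Std) (i₁ : ι)

include hC hh hb in
omit [Nonempty ι] in
theorem mem_K_iff {n : ℕ} (x : Fin (n + 1) → ι) (p : Laurent.L A ι) :
    (∃ s, C.str x (vars e i₁) ∣ s * C.str x (vars e (x 0)) ∧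
        Φ e C hh x s * Laurent.T A (-Pi.single i₁ 1) = p) ↔
      Laurent.Supp (-1) (Set.range x) p := by
  set w : ι → ℤ := -Pi.single (x 0) 1 with hw
  have hwS : ∀ i, i ∉ Set.range x → w i = 0 := fun i hi => by
    simp [hw, Pi.single_eq_of_ne (show i ≠ x 0 from fun h' => hi ⟨0, h'.symm⟩)]
  have hwsum : (-1 : ℤ) = 0 + ∑ i, w i := by simp [hw, Finset.sum_pi_single']
  constructor
  · rintro ⟨s, ⟨u, hu⟩, rfl⟩
    have h1 := congrArg (Φ e C hh x) hu
    rw [map_mul, map_mul, Φ_str_X, Φ_str_X] at h1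
    have key : Φ e C hh x s * Laurent.T A (-Pi.single i₁ 1) = Φ e C hh x u * Laurent.T A w := by
      refine (Laurent.isUnit_T (A := A) (Pi.single (x 0) 1 + Pi.single i₁ 1)).mul_right_cancel ?_
      rw [mul_assoc, mul_assoc, ← Laurent.T_add, ← Laurent.T_add,
        show -Pi.single i₁ 1 + (Pi.single (x 0) 1 + Pi.single i₁ 1) = (Pi.single (x 0) 1 : ι → ℤ) by abel,
        show w + (Pi.single (x 0) 1 + Pi.single i₁ 1) = (Pi.single i₁ 1 : ι → ℤ) by rw [hw]; abel,
        h1, mul_comm]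
    rw [key, hwsum]
    exact (Laurent.supp_mul_T_iff hwS).2 (supp_V e C hh hb hC x u)
  · intro hp
    have hp0 : Laurent.Supp ((0 : ℕ) : ℤ) (Set.range x) (p * Laurent.T A (-w)) := by
      refine (Laurent.supp_mul_T_iff hwS).1 ?_
      rw [mul_assoc, ← Laurent.T_add, neg_add_cancel, Laurent.T_zero, mul_one, Nat.cast_zero, ← hwsum]
      exact hp
    obtain ⟨y, -, hy⟩ := (mem_J_iff e C hh hb hC 0 x _).2 hp0
    obtain ⟨q, hq⟩ := C.dvd_str i₁ x
    have h1 := congrArg (Φ e C hh x) hq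
    rw [map_mul, Φ_str_X, Φ_str_X] at h1
    refine ⟨q * y, ⟨y, by rw [hq]; ring⟩, ?_⟩
    refine (Laurent.isUnit_T (A := A) (Pi.single i₁ 1)).mul_right_cancel ?_
    rw [mul_assoc, ← Laurent.T_add, neg_add_cancel, Laurent.T_zero, mul_one, map_mul, hy, h1, hw, neg_neg]
    ring

/-- Shifted coefficients of a cochain. -/
noncomputable def coefK {n : ℕ} (s : C.Co n) : PnCoh.Combinat.C A ι (n + 1) :=
  fun x => (Φ e C hh x (s x) * Laurent.T A (-Pi.single i₁ 1)).coeff

omit [Nonempty ι] in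
theorem coefK_d {n : ℕ} (s : C.Co n) :
    coefK e C hh i₁ (C.d n s) = PnCoh.Combinat.dL A (n + 1) (coefK e C hh i₁ s) := by
  funext x
  rw [PnCoh.Combinat.dL_apply, coefK, Cov.d_apply, map_sum, Finset.sum_mul, AddMonoidAlgebra.coeff_sum]
  refine Finset.sum_congr rfl fun a _ => ?_
  rw [map_zsmul, Φ_face, smul_mul_assoc, ← Int.cast_smul_eq_zsmul A, AddMonoidAlgebra.coeff_smul]
  simp [coefK]

include hC hh hb in
theorem exactK_base (h2 : 2 ≤ Fintype.card ι) : C.ExactK i₁ := by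
  intro p s hs hds
  have hsupp : ∀ x a, coefK e C hh i₁ s x a ≠ 0 → a ∈ Laurent.allowed (-1 : ℤ) (Set.range x) := fun x a ha =>
    (mem_K_iff e C hh hb hC i₁ x _).1 ⟨s x, hs x, rfl⟩ a ha
  have hd : PnCoh.Combinat.dL A (p + 2) (coefK e C hh i₁ s) = 0 := by
    rw [← coefK_d, hds]
    funext x
    simp [coefK]
  have key := PnCoh.Combinat.eq_dL_hL hd fun x a hneg => by
    by_contra hne
    have h1 := (hsupp x a hne).1
    have h3 : ∑ i, a i ≤ ∑ _i : ι, (-1 : ℤ) := Finset.sum_le_sum fun i _ => by have := hneg i; omega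
    simp only [Finset.sum_const, Finset.card_univ, nsmul_eq_mul, mul_neg, mul_one] at h3
    omega
  have hlift : ∀ y : Fin (p + 1) → ι, ∃ t, C.str y (vars e i₁) ∣ t * C.str y (vars e (y 0)) ∧
      Φ e C hh y t * Laurent.T A (-Pi.single i₁ 1) =
        AddMonoidAlgebra.ofCoeff (PnCoh.Combinat.hL (p + 1) (coefK e C hh i₁ s) y) := fun y =>
    (mem_K_iff e C hh hb hC i₁ y _).2 fun a ha => hL_supp hsupp y a ha
  choose t htK ht using hlift
  refine ⟨t, htK, funext fun x => Φ_injective e C hh hb x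
    ((Laurent.isUnit_T (A := A) (-Pi.single i₁ 1)).mul_right_cancel (AddMonoidAlgebra.ext ?_))⟩
  change coefK e C hh i₁ (C.d p t) x = coefK e C hh i₁ s x
  rw [coefK_d, ← congrFun key x]
  refine congrFun (congrArg _ (funext fun y => ?_)) x
  rw [coefK, ht]

end Base

/-- The inverse of the exceptional ideal has no higher Čech cohomology. -/
def GoodK (R : Type u) [CommRing R] {ι : Type u} (g : ι → R) (i₁ : ι) : Prop :=
  ∀ (X : Scheme.{u}) (b : X ⟶ Spec (CommRingCat.of R)),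
    BlowUp.IsBlowUp b (sheafOf (Ideal.span (Set.range g))) → ∃ C : Cov g b, C.ExactK i₁

theorem goodK_step {R R' : Type u} [CommRing R] [CommRing R'] {ι : Type u} {d : ℕ} (e : Fin d ≃ ι)
    (φ : R →+* R') (hφ : Function.Surjective φ) {c : R} (hker : RingHom.ker φ = Ideal.span {c})
    (hc : c ∈ nonZeroDivisors R) {g : ι → R} (hK : LCI.IsKoszulRegularSeq R (List.ofFn (g ∘ e)))
    {g' : ι → R'} (hg' : φ ∘ g = g') (hK' : LCI.IsKoszulRegularSeq R' (List.ofFn (g' ∘ e)))
    {i₁ : ι} (hc' : g' i₁ ∈ nonZeroDivisors R') (hG : GoodK R g i₁) : GoodK R' g' i₁ := by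
  subst hg'
  intro X' b' hb'
  obtain ⟨X, b, i, hb, hi, H, hk⟩ := exists_step e φ hφ hker hK hK' hb'
  obtain ⟨C, hCe⟩ := hG X b hb
  exact ⟨C.pullback φ H.w, exactK_pullback φ hb hb' hk hc hc' hCe⟩

namespace Chain

open MvPolynomial

variable {A : Type u} [CommRing A] {d : ℕ} (f : Fin d → A) (hf : IsWeaklyRegular A (List.ofFn f))

include hf in
theorem fst_mem_nonZeroDivisors (hd : 0 < d) : f ⟨0, hd⟩ ∈ nonZeroDivisors A := by
  obtain ⟨l, rfl⟩ : ∃ l, d = l + 1 := ⟨d - 1, by omega⟩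
  rw [List.ofFn_succ, isWeaklyRegular_cons_iff] at hf
  exact mem_nonZeroDivisors_iff_right.2 fun z hz =>
    hf.1 (show f 0 • z = f 0 • 0 by rw [smul_eq_mul, smul_eq_mul, mul_zero, mul_comm]; exact hz)

include hf in
theorem gen_mem_nonZeroDivisors (hd : 0 < d) (l : ℕ) :
    gen f l ⟨⟨0, hd⟩⟩ ∈ nonZeroDivisors (MvPolynomial (σ.{u} d l) A) := by
  unfold gen
  split_ifs
  · exact mem_nonZeroDivisors_iff_right.2 fun z hz =>
      MvPolynomial.isRegular_X.right.eq_iff.1 (hz.trans (zero_mul _).symm)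
  · rw [mem_nonZeroDivisors_iff_right]
    intro z hz
    refine MvPolynomial.ext _ _ fun m => ?_
    have h1 := congrArg (MvPolynomial.coeff m) hz
    rw [mul_comm, MvPolynomial.coeff_C_mul, MvPolynomial.coeff_zero] at h1
    rw [MvPolynomial.coeff_zero]
    exact (mul_left_mem_nonZeroDivisors_eq_zero_iff (fst_mem_nonZeroDivisors f hf hd)).1 h1

include hf in
theorem goodK_gen (hd : 2 ≤ d) (l : ℕ) (hl : l ≤ d) :
    GoodK (MvPolynomial (σ.{u} d l) A) (gen f l) ⟨⟨0, by omega⟩⟩ := by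
  induction l with
  | zero =>
    haveI : Nonempty (ULift.{u} (Fin d)) := ⟨⟨⟨0, by omega⟩⟩⟩
    let e₀ : ULift.{u} (Fin d) ≃ σ.{u} d 0 :=
      ⟨fun i => ⟨i, Nat.zero_le _⟩, fun i => i.1, fun _ => rfl, fun _ => rfl⟩
    rw [show gen f 0 = vars (A := A) e₀ from funext fun i => dif_pos (Nat.zero_le _)]
    intro X b hb
    obtain ⟨C, h, hC, hh⟩ := exists_cov_vars e₀ hb
    exact ⟨C, Base.exactK_base e₀ C hh hb hC _ (by simpa using hd)⟩
  | succ l ih =>
    exact goodK_step Equiv.ulift.symm (sub f l) (sub_surjective f l) (ker_sub f (by omega))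
      (rel_mem_nonZeroDivisors f (by omega))
      (Groth.KoszulLCI.isKoszulRegularSeq_of_isWeaklyRegular (isWeaklyRegular_gen f hf l))
      (sub_gen f l)
      (Groth.KoszulLCI.isKoszulRegularSeq_of_isWeaklyRegular (isWeaklyRegular_gen f hf (l + 1)))
      (gen_mem_nonZeroDivisors f hf (by omega) (l + 1))
      (ih (by omega))

end Chain

/-- The inverse of the exceptional ideal of a blow-up along a weakly regular sequence of length at
least two. -/
theorem goodK_of_isWeaklyRegular {A : Type u} [CommRing A] {d : ℕ} (hd : 2 ≤ d) (f : Fin d → A)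
    (hf : IsWeaklyRegular A (List.ofFn f)) : GoodK A (f ∘ ULift.down.{u}) ⟨⟨0, by omega⟩⟩ := by
  obtain ⟨l, rfl⟩ : ∃ l, d = l + 1 := ⟨d - 1, by omega⟩
  haveI : IsEmpty (Chain.σ.{u} (l + 1) (l + 1)) := ⟨fun i => absurd i.2 (by have := i.1.down.2; omega)⟩
  let ev : MvPolynomial (Chain.σ.{u} (l + 1) (l + 1)) A ≃+* A :=
    (MvPolynomial.isEmptyAlgEquiv A _).toRingEquiv
  have hev : ev.toRingHom ∘ Chain.gen f (l + 1) = f ∘ ULift.down.{u} := funext fun i => by
    simp only [Function.comp_apply, Chain.gen]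
    rw [dif_neg (show ¬ l + 1 ≤ (i.down : ℕ) by have := i.down.2; omega)]
    simp [ev]
    exact MvPolynomial.coeff_zero_C _
  refine goodK_step Equiv.ulift.symm (ev.toRingHom.comp (Chain.sub f l))
    (ev.surjective.comp (Chain.sub_surjective f l)) ?_ (Chain.rel_mem_nonZeroDivisors f (Nat.lt_succ_self l))
    (Groth.KoszulLCI.isKoszulRegularSeq_of_isWeaklyRegular (Chain.isWeaklyRegular_gen f hf l))
    (by rw [RingHom.coe_comp, Function.comp_assoc, Chain.sub_gen, hev])
    (Groth.KoszulLCI.isKoszulRegularSeq_of_isWeaklyRegular (by exact hf))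
    (Chain.fst_mem_nonZeroDivisors f hf (by omega))
    (Chain.goodK_gen f hf hd l (Nat.le_succ l))
  rw [RingHom.ker_comp_of_injective _ ev.injective, Chain.ker_sub]

end Groth.BlowUpVanish
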