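import Groth.Agent.BlowUpBasics.AtlasOf
import Groth.Agent.BlowUpBasics.SheafOf
import Groth.Agent.BlowUpBasics.IdealComap
import Groth.Agent.Agf.BlowUpExceptional
import Groth.Agent.PointBlowUp.TwoChart
import Groth.Agent.DivNorm.InfMul
import Groth.Agent.CohBase.Cech

/-!
# The standard cover of a blow-up of an affine scheme and its Čech cochains
-/

set_option autoImplicit false
set_option backward.isDefEq.respectTransparency.types false
universe u

open CategoryTheory AlgebraicGeometry TopologicalSpace Opposite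
open Groth.BlowUpBasics
open Groth.CohBase (inter inter_le inter_comp)

namespace Groth.BlowUpVanish

variable {R : Type u} [CommRing R] {ι : Type u} {X : Scheme.{u}}

/-- A cover adapted to generators `g` of the centre: on the `i`-th open the exceptional ideal is
generated by `g i`. -/
structure Cov (g : ι → R) (b : X ⟶ Spec (CommRingCat.of R)) where
  U : ι → X.Opens
  cover : ⨆ i, U i = ⊤
  affineU : ∀ i, IsAffineOpen (U i)
  affine : ∀ {n : ℕ} (x : Fin (n + 1) → ι), IsAffineOpen (inter (X := X.toTopCat) U x)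
  gen : ∀ (i : ι) (V : X.affineOpens), V.1 ≤ U i →
    ((sheafOf (Ideal.span (Set.range g))).comap b).ideal V = Ideal.span {phi b V.1 (g i)}
  mem : ∀ i, b ⁻¹ᵁ PrimeSpectrum.basicOpen (g i) ≤ U i

/-- The functions on the opens are generated by the fractions of the centre, and the overlaps are cut
out by those fractions. -/
structure Cov.Std {g : ι → R} {b : X ⟶ Spec (CommRingCat.of R)} (C : Cov g b) : Prop where
  closure : ∀ (i : ι) (s : Γ(X, C.U i)), s ∈ Subring.closure (Set.range (phi b (C.U i)) ∪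
    {u | ∃ r ∈ Ideal.span (Set.range g), u * phi b (C.U i) (g i) = phi b (C.U i) r})
  ratio : ∀ i j : ι, ∃ u : Γ(X, C.U i),
    u * phi b (C.U i) (g i) = phi b (C.U i) (g j) ∧ X.basicOpen u ≤ C.U j

/-- The functions on a chart are generated by fractions. -/
theorem chartHom_mem_closure {I : Ideal R} {b : X ⟶ Spec (CommRingCat.of R)} (T : Atlas I b) (a : I)
    (c : BlowUp.affineAlgebra R I (a : R)) :
    Groth.PointBlowUp.chartHom T a c ∈ Subring.closure
      (Set.range (phi b (Groth.PointBlowUp.chartOpen T a)) ∪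
        {u | ∃ r ∈ I, u * phi b (Groth.PointBlowUp.chartOpen T a) (a : R) =
          phi b (Groth.PointBlowUp.chartOpen T a) r}) := by
  have hphi := Groth.PointBlowUp.phi_chartOpen T a
  obtain ⟨c, hc⟩ := c
  unfold BlowUp.affineAlgebra at hc
  induction hc using Algebra.adjoin_induction with
  | mem z hz =>
    obtain ⟨x, hx, rfl⟩ := hz
    refine Subring.subset_closure (Or.inr ⟨x, hx, ?_⟩)
    change Groth.PointBlowUp.chartHom T a (frac I (a : R) x hx) * _ = _
    rw [hphi, RingHom.comp_apply, RingHom.comp_apply, ← map_mul, frac_mul_algebraMap]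
  | algebraMap r =>
    refine Subring.subset_closure (Or.inl ⟨r, ?_⟩)
    rw [hphi]
    rfl
  | add x y hx hy h1 h2 =>
    rw [show (⟨x + y, Subalgebra.add_mem _ hx hy⟩ :
      BlowUp.affineAlgebra R I (a : R)) = ⟨x, hx⟩ + ⟨y, hy⟩ from rfl, map_add]
    exact add_mem h1 h2
  | mul x y hx hy h1 h2 =>
    rw [show (⟨x * y, Subalgebra.mul_mem _ hx hy⟩ :
      BlowUp.affineAlgebra R I (a : R)) = ⟨x, hx⟩ * ⟨y, hy⟩ from rfl, map_mul]
    exact mul_mem h1 h2

/-- Every blow-up of an affine scheme has such a cover. -/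
theorem exists_cov {d : ℕ} (g : ι → R) (e : Fin d ≃ ι) {b : X ⟶ Spec (CommRingCat.of R)}
    [IsSeparated b] (hb : BlowUp.IsBlowUp b (sheafOf (Ideal.span (Set.range g)))) :
    ∃ C : Cov g b, C.Std := by
  obtain ⟨T⟩ := nonempty_atlas_of_isBlowUp hb
  set I := Ideal.span (Set.range g) with hI
  let a : ι → I := fun i => ⟨g i, Ideal.subset_span ⟨i, rfl⟩⟩
  let U : ι → X.Opens := fun i => (T.j (a i)) ''ᵁ ⊤
  have hU : ∀ i, IsAffineOpen (U i) := fun i => (isAffineOpen_top _).image_of_isOpenImmersion _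
  have hI' : I = Ideal.span (Set.range (g ∘ e)) := by rw [EquivLike.range_comp]
  haveI : X.IsSeparated := ⟨by
    rw [← Limits.terminal.comp_from b]
    infer_instance⟩
  refine ⟨{ U := U, cover := ?_, affineU := hU, affine := ?_, gen := ?_, mem := ?_ }, ?_⟩
  · refine top_le_iff.mp fun z _ => ?_
    obtain ⟨a', y, rfl⟩ := T.covers z
    obtain ⟨k, hk⟩ : ∃ k, frac I (a' : R) ((g ∘ e) k) (a (e k)).2 ∉ y.asIdeal := by
      by_contra! hall
      exact Groth.Agf.BlowUpExceptional.frac_mem_false (g ∘ e) I hI' _ a'.2 _ y.isPrime.ne_top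
        (fun k => (a (e k)).2) hall
    obtain ⟨w, hw⟩ := T.overlap (a (e k)) a' y hk
    exact Opens.mem_iSup.mpr ⟨e k, ⟨w, trivial, hw⟩⟩
  · intro n x
    induction n with
    | zero => rw [Groth.CohBase.inter_one (X := X.toTopCat)]; exact hU _
    | succ n ih =>
      rw [← Fin.cons_self_tail x, Groth.CohBase.inter_cons (X := X.toTopCat)]
      exact (hU _).inf (ih _)
  · intro i V hV
    rw [ideal_comap_sheafOf]
    have hspan : I.map (phi b (U i)) = Ideal.span {phi b (U i) (g i)} := by
      have h := Groth.PointBlowUp.phi_chartOpen T (a i)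
      rw [show phi b (U i) = _ from h, ← Ideal.map_map, map_eq_span (a i).2, Ideal.map_span,
        Set.image_singleton]
      rfl
    rw [phi_restrict b hV, ← Ideal.map_map, hspan, Ideal.map_span, Set.image_singleton]
    rfl
  · intro i z hz
    obtain ⟨a', y, rfl⟩ := T.covers z
    have hy : frac I (a' : R) (g i) (a i).2 ∉ y.asIdeal := by
      intro hmem
      have h1 : (T.j a' ≫ b) y ∈ PrimeSpectrum.basicOpen (g i) := hz
      rw [T.fac] at h1
      refine h1 ?_
      change algebraMap R _ (g i) ∈ y.asIdeal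
      rw [← frac_mul_algebraMap (I := I) (a := (a' : R)) (g i) (a i).2]
      exact y.asIdeal.mul_mem_right _ hmem
    obtain ⟨w, hw⟩ := T.overlap (a i) a' y hy
    exact ⟨w, trivial, hw⟩
  · have hphi : ∀ i, phi b (U i) =
        (Groth.PointBlowUp.chartHom T (a i)).comp (algebraMap R _) := fun i =>
      Groth.PointBlowUp.phi_chartOpen T (a i)
    have hcl : ∀ (i : ι) (s : Γ(X, Groth.PointBlowUp.chartOpen T (a i))), s ∈ Subring.closure
        (Set.range (phi b (Groth.PointBlowUp.chartOpen T (a i))) ∪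
          {u | ∃ r ∈ I, u * phi b (Groth.PointBlowUp.chartOpen T (a i)) (g i) =
            phi b (Groth.PointBlowUp.chartOpen T (a i)) r}) := by
      intro i s
      obtain ⟨c, hc⟩ := (Groth.PointBlowUp.chartHom_bijective T (a i)).2 s
      exact hc ▸ chartHom_mem_closure T (a i) c
    refine ⟨hcl, fun i j => ?_⟩
    · refine ⟨Groth.PointBlowUp.chartHom T (a i) (frac I (a i : R) (g j) (a j).2), ?_,
        Groth.PointBlowUp.basicOpen_chartHom_le T (a i) (a j)⟩
      change Groth.PointBlowUp.chartHom T (a i) (frac I (a i : R) (g j) (a j).2) * phi b (U i) (g i) =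
          phi b (U i) (g j)
      rw [hphi, RingHom.comp_apply, RingHom.comp_apply, ← map_mul, frac_mul_algebraMap]

namespace Cov

variable {g : ι → R} {b : X ⟶ Spec (CommRingCat.of R)} (C : Cov g b)

/-- The intersection attached to a tuple. -/
abbrev V {n : ℕ} (x : Fin n → ι) : X.Opens := inter (X := X.toTopCat) C.U x

/-- The structure map to the functions on an intersection. -/
noncomputable abbrev str {n : ℕ} (x : Fin n → ι) : R →+* Γ(X, C.V x) := phi b (C.V x)

/-- Restriction from a face. -/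
noncomputable def face {n : ℕ} (x : Fin (n + 2) → ι) (a : Fin (n + 2)) :
    Γ(X, C.V (x ∘ a.succAbove)) →+* Γ(X, C.V x) :=
  (X.presheaf.map (homOfLE (inter_comp (X := X.toTopCat) C.U x a.succAbove)).op).hom

lemma face_str {n : ℕ} (x : Fin (n + 2) → ι) (a : Fin (n + 2)) (r : R) :
    C.face x a (C.str (x ∘ a.succAbove) r) = C.str x r :=
  (RingHom.congr_fun (phi_restrict b (inter_comp (X := X.toTopCat) C.U x a.succAbove)) r).symm

/-- The `n`-th power of the exceptional ideal on an intersection. -/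
noncomputable def J (m : ℕ) {n : ℕ} (x : Fin (n + 1) → ι) : Ideal Γ(X, C.V x) :=
  Ideal.span {C.str x (g (x 0)) ^ m}

lemma span_eq {n : ℕ} (x : Fin (n + 1) → ι) (a : Fin (n + 1)) :
    Ideal.span {C.str x (g (x a))} = Ideal.span {C.str x (g (x 0))} := by
  have h : ∀ a, ((sheafOf (Ideal.span (Set.range g))).comap b).ideal ⟨C.V x, C.affine x⟩ =
      Ideal.span {C.str x (g (x a))} := fun a =>
    C.gen (x a) ⟨C.V x, C.affine x⟩ (inter_le (X := X.toTopCat) C.U x a)
  rw [← h, ← h]

lemma J_eq (m : ℕ) {n : ℕ} (x : Fin (n + 1) → ι) (a : Fin (n + 1)) :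
    C.J m x = Ideal.span {C.str x (g (x a)) ^ m} := by
  rw [J, ← Ideal.span_singleton_pow, ← Ideal.span_singleton_pow, C.span_eq x a]

lemma mem_nonZeroDivisors (hb : BlowUp.IsEffCartierIdeal ((sheafOf (Ideal.span (Set.range g))).comap b))
    {n : ℕ} (x : Fin (n + 1) → ι) (a : Fin (n + 1)) :
    C.str x (g (x a)) ∈ nonZeroDivisors Γ(X, C.V x) :=
  Groth.DivNorm.mem_nonZeroDivisors_of_span hb ⟨C.V x, C.affine x⟩
    (C.gen (x a) ⟨C.V x, C.affine x⟩ (inter_le (X := X.toTopCat) C.U x a))

lemma face_mem_J (m : ℕ) {n : ℕ} (x : Fin (n + 2) → ι) (a : Fin (n + 2))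
    {s : Γ(X, C.V (x ∘ a.succAbove))} (hs : s ∈ C.J m (x ∘ a.succAbove)) : C.face x a s ∈ C.J m x := by
  obtain ⟨c, rfl⟩ := Ideal.mem_span_singleton'.mp hs
  rw [map_mul, map_pow, C.face_str, C.J_eq m x (a.succAbove 0)]
  exact Ideal.mem_span_singleton'.mpr ⟨_, rfl⟩

/-- Cochains of the structure sheaf. -/
abbrev Co (n : ℕ) : Type u := ∀ x : Fin (n + 1) → ι, Γ(X, C.V x)

/-- The Čech differential. -/
noncomputable def d (n : ℕ) : C.Co n →+ C.Co (n + 1) where
  toFun s x := ∑ a : Fin (n + 2), ((-1 : ℤ) ^ (a : ℕ)) • C.face x a (s (x ∘ a.succAbove))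
  map_zero' := by ext x; simp
  map_add' s t := by ext x; simp [Finset.sum_add_distrib, smul_add]

lemma d_apply {n : ℕ} (s : C.Co n) (x : Fin (n + 2) → ι) :
    C.d n s x = ∑ a : Fin (n + 2), ((-1 : ℤ) ^ (a : ℕ)) • C.face x a (s (x ∘ a.succAbove)) := rfl

lemma d_d {n : ℕ} (s : C.Co n) : C.d (n + 1) (C.d n s) = 0 :=
  Groth.CohBase.dCoch_dCoch (X := X.toTopCat) C.U (Coh.structureModule X).presheaf s

lemma d_str (r : R) (x : Fin 2 → ι) : C.d 0 (fun y => C.str y r) x = 0 := by
  simp [d_apply, C.face_str, Fin.sum_univ_two]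

/-- Multiplying a cochain by a function on the base. -/
noncomputable def mulR (r : R) {n : ℕ} (s : C.Co n) : C.Co n := fun x => C.str x r * s x

lemma d_mulR (r : R) {n : ℕ} (s : C.Co n) : C.d n (C.mulR r s) = C.mulR r (C.d n s) := by
  funext x
  simp only [d_apply, mulR, map_mul, C.face_str, Finset.mul_sum, mul_smul_comm]

/-- Cochains in the `m`-th power of the exceptional ideal. -/
def InJ (m : ℕ) {n : ℕ} (s : C.Co n) : Prop := ∀ x, s x ∈ C.J m x

lemma inJ_d {m n : ℕ} {s : C.Co n} (hs : C.InJ m s) : C.InJ m (C.d n s) := fun x => by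
  rw [d_apply]
  exact Submodule.sum_mem _ fun a _ => zsmul_mem (C.face_mem_J m x a (hs _)) _

/-- Vanishing of Čech cohomology of the `m`-th power of the exceptional ideal in positive degrees. -/
def Exact (m : ℕ) : Prop :=
  ∀ (p : ℕ) (s : C.Co (p + 1)), C.InJ m s → C.d (p + 1) s = 0 →
    ∃ t : C.Co p, C.InJ m t ∧ C.d p t = s

/-- Global functions are the functions on the base. -/
def Glob : Prop :=
  (∀ s : C.Co 0, C.d 0 s = 0 → ∃ r : R, ∀ x, s x = C.str x r) ∧
    ∀ r : R, (∀ x : Fin 1 → ι, C.str x r = 0) → r = 0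

end Cov

end Groth.BlowUpVanish
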