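import Groth.Agent.BlowUpVanish.Chain
import Mathlib.RingTheory.MvPolynomial.Ideal

/-!
# Global sections of the powers of the exceptional ideal
-/

set_option autoImplicit false
set_option backward.isDefEq.respectTransparency.types false
universe u

open CategoryTheory CategoryTheory.Limits AlgebraicGeometry TopologicalSpace Opposite
open Groth.BlowUpBasics RingTheory.Sequence
open Groth.CohBase (inter inter_le inter_comp)

namespace Groth.BlowUpVanish

variable {R R' : Type u} [CommRing R] [CommRing R'] {ι : Type u}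

/-- Global sections of the powers of the exceptional ideal are the powers of the centre. -/
def Cov.GlobJ {g : ι → R} {X : Scheme.{u}} {b : X ⟶ Spec (CommRingCat.of R)} (C : Cov g b) : Prop :=
  ∀ (m : ℕ) (s : C.Co 0), C.InJ m s → C.d 0 s = 0 →
    ∃ r ∈ Ideal.span (Set.range g) ^ m, ∀ x, s x = C.str x r

/-- Exactness with the global sections of all powers. -/
def GoodJ (R : Type u) [CommRing R] (g : ι → R) : Prop :=
  ∀ (X : Scheme.{u}) (b : X ⟶ Spec (CommRingCat.of R)),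
    BlowUp.IsBlowUp b (sheafOf (Ideal.span (Set.range g))) →
      ∃ C : Cov g b, (∀ m, C.Exact m) ∧ C.GlobJ

section Step

variable (φ : R →+* R') {g : ι → R}
  {X X' : Scheme.{u}} {b : X ⟶ Spec (CommRingCat.of R)} {b' : X' ⟶ Spec (CommRingCat.of R')}
  {i : X' ⟶ X} [IsClosedImmersion i] {C : Cov g b}
  {w : i ≫ b = b' ≫ Spec.map (CommRingCat.ofHom φ)} {c : R}

theorem globJ_pullback (hb : BlowUp.IsBlowUp b (sheafOf (Ideal.span (Set.range g))))
    (hb' : BlowUp.IsEffCartierIdeal ((sheafOf (Ideal.span (Set.range (φ ∘ g)))).comap b'))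
    (hk : i.ker = (sheafOf (Ideal.span {c})).comap b) (hc : c ∈ nonZeroDivisors R)
    (hC : ∀ m, C.Exact m) (hG : C.GlobJ) : (C.pullback φ w).GlobJ := by
  intro m s hs hds
  have hlift : ∀ x, ∃ y : Γ(X, C.V x), y ∈ C.J m x ∧ resHom φ C w x y = s x := fun x => by
    obtain ⟨t, ht⟩ := Ideal.mem_span_singleton'.mp (hs x)
    obtain ⟨y, rfl⟩ := resHom_surjective φ C w x t
    refine ⟨y * C.str x (g (x 0)) ^ m, Ideal.mem_span_singleton'.mpr ⟨y, rfl⟩, ?_⟩
    rw [map_mul, map_pow, resHom_str]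
    exact ht
  choose s₁ hs₁ hs₁' using hlift
  have hr : ∀ x, ∃ v, v ∈ C.J m x ∧ C.d 0 s₁ x = C.str x c * v := fun x => by
    obtain ⟨v, hv⟩ := Ideal.mem_span_singleton'.mp (C.inJ_d hs₁ x)
    have h0 : resHom φ C w x (C.d 0 s₁ x) = 0 := by
      have := congrFun (resCo_d φ C w s₁) x
      rw [show resCo φ C w s₁ = s from funext hs₁', hds] at this
      exact this
    rw [← hv, map_mul, map_pow, resHom_str] at h0
    have h1 : resHom φ C w x v = 0 := (mul_right_mem_nonZeroDivisors_eq_zero_iff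
      (pow_mem ((C.pullback φ w).mem_nonZeroDivisors hb' x 0) m)).1 h0
    obtain ⟨v', rfl⟩ := (resHom_eq_zero φ hk x).1 h1
    exact ⟨v' * C.str x (g (x 0)) ^ m, Ideal.mem_span_singleton'.mpr ⟨v', rfl⟩, by rw [← hv, mul_assoc]⟩
  choose r hrJ hr using hr
  have hd : C.d 0 s₁ = C.mulR c r := funext hr
  have h2 : C.mulR c (C.d 1 r) = 0 := by rw [← C.d_mulR, ← hd, C.d_d]
  have hdr : C.d 1 r = 0 := funext fun x =>
    (mul_right_mem_nonZeroDivisors_eq_zero_iff (x := C.d 1 r x) (C.str_mem_nonZeroDivisors hb hc x)).1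
      ((mul_comm _ _).trans (congrFun h2 x))
  obtain ⟨q, hqJ, hq⟩ := hC m 0 r hrJ hdr
  have hds₂ : C.d 0 (s₁ - C.mulR c q) = 0 := by rw [map_sub, C.d_mulR, hq, hd, sub_self]
  obtain ⟨r₀, hr₀I, hr₀⟩ :=
    hG m (s₁ - C.mulR c q) (fun x => sub_mem (hs₁ x) (Ideal.mul_mem_left _ _ (hqJ x))) hds₂
  refine ⟨φ r₀, ?_, fun x => ?_⟩
  · rw [show Ideal.span (Set.range (φ ∘ g)) = (Ideal.span (Set.range g)).map φ by
      rw [Ideal.map_span, Set.range_comp], ← Ideal.map_pow]
    exact Ideal.mem_map_of_mem φ hr₀I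
  · rw [← resHom_str φ C w x, ← hr₀ x]
    change _ = resHom φ C w x (s₁ x - C.str x c * q x)
    rw [map_sub, hs₁', (resHom_eq_zero φ hk x).2 (dvd_mul_right _ _), sub_zero]

end Step

section Base

variable {A : Type u} [CommRing A] [Fintype ι] [DecidableEq ι] [Nonempty ι]
  {σ : Type u} (e : ι ≃ σ) {X : Scheme.{u}} {b : X ⟶ Spec (CommRingCat.of (MvPolynomial σ A))}
  (C : Cov (vars (A := A) e) b) {h : Spec (CommRingCat.of (Laurent.L A ι)) ⟶ X}
  (hh : h ≫ b = Spec.map (CommRingCat.ofHom (Laurent.toL (A := A) e)))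
  (hb : BlowUp.IsBlowUp b (sheafOf (Ideal.span (Set.range (vars (A := A) e))))) (hC : C.Std)

omit [DecidableEq ι] [Nonempty ι] in
theorem mem_pow_of_supp {m : ℕ} {r : MvPolynomial σ A}
    (hr : Laurent.Supp (m : ℤ) (∅ : Set ι) (Laurent.toL e r)) :
    r ∈ Ideal.span (Set.range (vars (A := A) e)) ^ m := by
  classical
  haveI : Fintype σ := Fintype.ofEquiv ι e
  rw [show Set.range (vars (A := A) e) = Set.range MvPolynomial.X from
    e.surjective.range_comp MvPolynomial.X, r.as_sum]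
  refine Submodule.sum_mem _ fun a ha => (MvPolynomial.monomial_mem_pow_idealOfVars_iff m a
    (MvPolynomial.mem_support_iff.1 ha)).2 ?_
  have h1 := (hr (Laurent.expo e a) (by
    rw [Laurent.toL]
    change (AddMonoidAlgebra.mapDomain (Laurent.expo e) r).coeff _ ≠ 0
    rw [AddMonoidAlgebra.coeff_mapDomain, Finsupp.mapDomain_apply (Laurent.expo_injective e)]
    exact MvPolynomial.mem_support_iff.1 ha)).1
  have h2 : ∑ i, Laurent.expo e a i = (a.degree : ℤ) := by
    rw [Finsupp.degree_eq_sum, Nat.cast_sum, ← e.sum_comp fun s => (a s : ℤ)]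
    rfl
  omega

include hC hh hb in
theorem globJ_base : C.GlobJ := by
  intro m s hJ hs
  obtain ⟨r, hr⟩ := (Base.glob_base e C hh hb hC).1 s hs
  refine ⟨r, mem_pow_of_supp e ?_, hr⟩
  intro a ha
  have hall : ∀ i : ι, a ∈ Laurent.allowed (m : ℤ) (Set.range (![i] : Fin 1 → ι)) := fun i =>
    ((Base.mem_J_iff e C hh hb hC m ![i] _).1 ⟨s ![i], hJ _, rfl⟩) a (by
      rw [hr, Base.Φ_str]; exact ha)
  refine ⟨(hall (Classical.arbitrary ι)).1, fun k hk => ?_⟩
  exact absurd hk (not_lt.2 (le_of_not_gt fun hk' => ((Laurent.supp_toL e r) a ha).2 k hk'))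

end Base

theorem goodJ_step {d : ℕ} (e : Fin d ≃ ι) (φ : R →+* R') (hφ : Function.Surjective φ) {c : R}
    (hker : RingHom.ker φ = Ideal.span {c})
    (hc : c ∈ nonZeroDivisors R) {g : ι → R} (hK : LCI.IsKoszulRegularSeq R (List.ofFn (g ∘ e)))
    {g' : ι → R'} (hg' : φ ∘ g = g') (hK' : LCI.IsKoszulRegularSeq R' (List.ofFn (g' ∘ e)))
    (hG : GoodJ R g) : GoodJ R' g' := by
  subst hg'
  intro X' b' hb'
  obtain ⟨X, b, i, hb, hi, H, hk⟩ := exists_step e φ hφ hker hK hK' hb'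
  obtain ⟨C, hCe, hCg⟩ := hG X b hb
  exact ⟨C.pullback φ H.w, fun m => exact_pullback φ hb hb'.1 hk hc (hCe m),
    globJ_pullback φ hb hb'.1 hk hc hCe hCg⟩

namespace Chain

variable {A : Type u} [CommRing A] {d : ℕ} (f : Fin d → A) (hf : IsWeaklyRegular A (List.ofFn f))

include hf in
theorem goodJ_gen (hd : 0 < d) (l : ℕ) (hl : l ≤ d) :
    GoodJ (MvPolynomial (σ.{u} d l) A) (gen f l) := by
  induction l with
  | zero =>
    haveI : Nonempty (ULift.{u} (Fin d)) := ⟨⟨⟨0, hd⟩⟩⟩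
    let e₀ : ULift.{u} (Fin d) ≃ σ.{u} d 0 :=
      ⟨fun i => ⟨i, Nat.zero_le _⟩, fun i => i.1, fun _ => rfl, fun _ => rfl⟩
    rw [show gen f 0 = vars (A := A) e₀ from funext fun i => dif_pos (Nat.zero_le _)]
    intro X b hb
    obtain ⟨C, h, hC, hh⟩ := exists_cov_vars e₀ hb
    exact ⟨C, Base.exact_base e₀ C hh hb hC, globJ_base e₀ C hh hb hC⟩
  | succ l ih =>
    exact goodJ_step Equiv.ulift.symm (sub f l) (sub_surjective f l) (ker_sub f (by omega))
      (rel_mem_nonZeroDivisors f (by omega))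
      (Groth.KoszulLCI.isKoszulRegularSeq_of_isWeaklyRegular (isWeaklyRegular_gen f hf l))
      (sub_gen f l)
      (Groth.KoszulLCI.isKoszulRegularSeq_of_isWeaklyRegular (isWeaklyRegular_gen f hf (l + 1)))
      (ih (by omega))

end Chain

theorem goodJ_of_isWeaklyRegular {A : Type u} [CommRing A] {d : ℕ} (hd : 0 < d) (f : Fin d → A)
    (hf : IsWeaklyRegular A (List.ofFn f)) : GoodJ A (f ∘ ULift.down.{u}) := by
  obtain ⟨l, rfl⟩ : ∃ l, d = l + 1 := ⟨d - 1, by omega⟩
  haveI : IsEmpty (Chain.σ.{u} (l + 1) (l + 1)) := ⟨fun i => absurd i.2 (by have := i.1.down.2; omega)⟩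
  let ev : MvPolynomial (Chain.σ.{u} (l + 1) (l + 1)) A ≃+* A :=
    (MvPolynomial.isEmptyAlgEquiv A _).toRingEquiv
  have hev : ev.toRingHom ∘ Chain.gen f (l + 1) = f ∘ ULift.down.{u} := funext fun i => by
    simp only [Function.comp_apply, Chain.gen]
    rw [dif_neg (show ¬ l + 1 ≤ (i.down : ℕ) by have := i.down.2; omega)]
    simp [ev]
    exact MvPolynomial.coeff_zero_C _
  refine goodJ_step Equiv.ulift.symm (ev.toRingHom.comp (Chain.sub f l))
    (ev.surjective.comp (Chain.sub_surjective f l)) ?_ (Chain.rel_mem_nonZeroDivisors f (Nat.lt_succ_self l))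
    (Groth.KoszulLCI.isKoszulRegularSeq_of_isWeaklyRegular (Chain.isWeaklyRegular_gen f hf l))
    (by rw [RingHom.coe_comp, Function.comp_assoc, Chain.sub_gen, hev])
    (Groth.KoszulLCI.isKoszulRegularSeq_of_isWeaklyRegular (by exact hf))
    (Chain.goodJ_gen f hf hd l (Nat.le_succ l))
  rw [RingHom.ker_comp_of_injective _ ev.injective, Chain.ker_sub]

end Groth.BlowUpVanish
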