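import Groth.Agent.CohDev.PushEdgeMod
import Groth.Agent.EulerDeg.HLinear
import Groth.Agent.CohC3.PushPull
import Groth.Prelude.Def_Curv2

/-!
# Cohomology of a direct image without higher direct images, linearly
-/

set_option autoImplicit false
set_option backward.isDefEq.respectTransparency.types false
universe u

open CategoryTheory Limits AlgebraicGeometry TopologicalSpace Opposite

namespace Groth.BlowUpVanish

/-- `H^p(X', G) = H^p(X, ρ_* G)` when `G` has no higher direct images. -/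
theorem nonempty_pushLin {R : Type u} [CommRing R] {X' X : Scheme.{u}}
    [X.Over (Spec (CommRingCat.of R))] [X'.Over (Spec (CommRingCat.of R))] (ρ : X' ⟶ X)
    (hρ : ρ ≫ (X ↘ Spec (CommRingCat.of R)) = X' ↘ Spec (CommRingCat.of R)) (G : X'.Modules)
    (hA : ∀ n : ℕ, IsZero ((Coh.RpushAb ρ (n + 1)).obj (Coh.toAb G))) (p : ℕ) :
    Nonempty (Coh.HH X ((Scheme.Modules.pushforward ρ).obj G) p ≃ₗ[R] Coh.HH X' G p) := by
  have hb := CohDev.edgeAb_bijective (X := X'.toTopCat) (Y := X.toTopCat) ρ.base p (Coh.toAb G) hA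
  let e : Coh.HH X ((Scheme.Modules.pushforward ρ).obj G) p ≃+ Coh.HH X' G p :=
    AddEquiv.ofBijective (CohDev.edgeAb (X := X'.toTopCat) (Y := X.toTopCat) ρ.base (Coh.toAb G) p) hb
  refine ⟨e.toLinearEquiv fun a x => ?_⟩
  have h1 : EulerDeg.hMap R ((Scheme.Modules.pushforward ρ).map (Formal.smulMod R G a)) p x = a • x := by
    rw [CohC3.pushforward_map_smulMod hρ G a]
    rfl
  rw [← h1]
  exact (CohDev.edgeAb_map (X := X'.toTopCat) (Y := X.toTopCat) ρ.base
    ((SheafOfModules.toSheaf.{u} X'.ringCatSheaf).map (Formal.smulMod R G a)) p x).trans rfl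

theorem euler_push_of_acyclic {k : Type u} [Field k] {X' X : Scheme.{u}}
    [X.Over (Spec (CommRingCat.of k))] [X'.Over (Spec (CommRingCat.of k))] (ρ : X' ⟶ X)
    (hρ : ρ ≫ (X ↘ Spec (CommRingCat.of k)) = X' ↘ Spec (CommRingCat.of k)) (G : X'.Modules)
    (hA : ∀ n : ℕ, IsZero ((Coh.RpushAb ρ (n + 1)).obj (Coh.toAb G))) :
    Curv2.euler k X' G = Curv2.euler k X ((Scheme.Modules.pushforward ρ).obj G) := by
  refine finsum_congr fun i => ?_
  obtain ⟨e⟩ := nonempty_pushLin ρ hρ G hA i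
  rw [e.finrank_eq]

end Groth.BlowUpVanish
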