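import Groth.Agent.BlowUpVanish.Twist
import Groth.Agent.FlatMor2.StratVanish.Main
import Groth.Agent.PnCoh.ProjectionFormula
import Groth.Agent.PicAux.QCoh

/-!
# Restriction to the exceptional divisor
-/

set_option autoImplicit false
set_option backward.isDefEq.respectTransparency.types false
universe u

open CategoryTheory CategoryTheory.Limits AlgebraicGeometry TopologicalSpace Opposite

namespace Groth.BlowUpVanish

variable {X : Scheme.{u}}

theorem subsingleton_HH_third {S : ShortComplex X.Modules} (hS : S.ShortExact) (p : ℕ)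
    (h1 : Subsingleton (Coh.HH X S.X₁ (p + 1))) (h2 : Subsingleton (Coh.HH X S.X₂ p)) :
    Subsingleton (Coh.HH X S.X₃ p) :=
  (Groth.FlatMor2.StratVanish.subsingleton_HH_iff _ _).2
    (Groth.CohBase.hVanish_third (Groth.CohBase.shortExact_toAb hS)
      ((Groth.FlatMor2.StratVanish.subsingleton_HH_iff _ _).1 h1)
      ((Groth.FlatMor2.StratVanish.subsingleton_HH_iff _ _).1 h2))

theorem shortExact_restrict {S : ShortComplex X.Modules} (hS : S.ShortExact) (W : X.Opens) :
    (S.map (Scheme.Modules.restrictFunctor W.ι)).ShortExact := by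
  haveI := Groth.CohBase.preservesFiniteLimits_restrictFunctor W.ι
  haveI : PreservesFiniteColimits (Scheme.Modules.restrictFunctor W.ι) :=
    haveI : PreservesColimitsOfSize.{0, 0} (Scheme.Modules.restrictFunctor W.ι) :=
      (Scheme.Modules.restrictAdjunction W.ι).leftAdjoint_preservesColimits
    PreservesColimitsOfSize.preservesFiniteColimits.{0, 0} _
  exact hS.map_of_exact _

/-- Vanishing for the restriction of an invertible module to a closed subscheme. -/
theorem subsingleton_HH_restrict_push (I : X.IdealSheafData) {L : X.Modules} (hL : PicF.IsInvertible L)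
    (W : X.Opens) (p : ℕ)
    (h1 : Subsingleton (Coh.HH W ((CohB1.tensorMod (ClSub.idealMod I) L).restrict W.ι) (p + 1)))
    (h2 : Subsingleton (Coh.HH W (L.restrict W.ι) p)) :
    Subsingleton (Coh.HH W (((Scheme.Modules.pushforward I.subschemeι).obj
      ((Scheme.Modules.pullback I.subschemeι).obj L)).restrict W.ι) p) := by
  have hS := shortExact_restrict (Groth.PicAux.shortExact_idealMod_twist I hL) W
  obtain ⟨l, -⟩ := Groth.PicAux.exists_leftUnitor L
  obtain ⟨e, -⟩ := Groth.PnCoh.exists_projectionFormula I.subschemeι (Coh.structureModule I.subscheme) hL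
  obtain ⟨l', -⟩ := Groth.PicAux.exists_leftUnitor ((Scheme.Modules.pullback I.subschemeι).obj L)
  let e₃ : CohB1.tensorMod (ClSub.quotMod I) L ≅ (Scheme.Modules.pushforward I.subschemeι).obj
      ((Scheme.Modules.pullback I.subschemeι).obj L) :=
    e ≪≫ (Scheme.Modules.pushforward I.subschemeι).mapIso l'
  exact Groth.ResolveSurf.RegularRational.subsingleton_HH_of_iso
    ((Scheme.Modules.restrictFunctor W.ι).mapIso e₃).symm _
    (subsingleton_HH_third hS p h1 (Groth.ResolveSurf.RegularRational.subsingleton_HH_of_iso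
      ((Scheme.Modules.restrictFunctor W.ι).mapIso l) _ h2))

theorem isQuasicoherent_push_pullback (I : X.IdealSheafData) {L : X.Modules} (hL : PicF.IsInvertible L) :
    ((Scheme.Modules.pushforward I.subschemeι).obj
      ((Scheme.Modules.pullback I.subschemeι).obj L)).IsQuasicoherent := by
  haveI := Groth.PicAux.isQCoh_of_isInvertible hL
  haveI := Groth.QCohMod.isQCoh_pullback_obj I.subschemeι L
  exact Groth.QCohMod.isQCoh_pushforward (M := (Scheme.Modules.pullback I.subschemeι).obj L) I.subschemeι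

variable {Y : Scheme.{u}} (σ : X ⟶ Y) [QuasiCompact σ] [QuasiSeparated σ] {𝓘 : Y.IdealSheafData}
  (hnice : ∀ y : Y, ∃ V : Y.affineOpens, y ∈ V.1 ∧ Nice 𝓘 V) (hσ : BlowUp.IsBlowUp σ 𝓘)

include hnice hσ in
/-- The powers of the exceptional ideal restricted to the exceptional divisor. -/
theorem isZero_RpushAb_exceptional_pow (n : ℕ) {p : ℕ} (hp : 1 ≤ p) :
    IsZero ((Coh.RpushAb σ p).obj (Coh.toAb
      ((Scheme.Modules.pushforward (BlowUp.exceptional σ 𝓘).subschemeι).obj
        ((Scheme.Modules.pullback (BlowUp.exceptional σ 𝓘).subschemeι).obj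
          (ClSub.idealMod ((BlowUp.exceptional σ 𝓘) ^ n)))))) := by
  have hC : BlowUp.IsEffCartierIdeal (BlowUp.exceptional σ 𝓘) := hσ.1
  have hCn := Groth.Divisors.isEffCartierIdeal_pow hC n
  have hL := Groth.PicAux.isInvertible_idealMod hCn
  haveI := isQuasicoherent_push_pullback (BlowUp.exceptional σ 𝓘) hL
  refine isZero_RpushAb_of_subsingleton σ _ p fun y => ?_
  obtain ⟨V, hyV, hV⟩ := hnice y
  obtain ⟨q, rfl⟩ : ∃ q, p = q + 1 := ⟨p - 1, by omega⟩
  refine ⟨V, hyV, subsingleton_HH_restrict_push _ hL _ _ ?_ (subsingleton_HH_preimage σ hnice hσ n q hV)⟩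
  obtain ⟨e⟩ := Groth.PicAux.idealMod_mul hC hCn
  rw [← pow_succ'] at e
  exact Groth.ResolveSurf.RegularRational.subsingleton_HH_of_iso
    ((Scheme.Modules.restrictFunctor (σ ⁻¹ᵁ V.1).ι).mapIso e) _
    (subsingleton_HH_preimage σ hnice hσ (n + 1) (q + 1) hV)

include hnice hσ in
/-- The inverse of the exceptional ideal restricted to the exceptional divisor, given the vanishing
of its cohomology over the nice opens. -/
theorem isZero_RpushAb_exceptional_inv {L : X.Modules}
    (hL : ClSub.IsInverseOf L (ClSub.idealMod (BlowUp.exceptional σ 𝓘))) {p : ℕ} (hp : 1 ≤ p)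
    (hv : ∀ y : Y, ∃ V : Y.affineOpens, y ∈ V.1 ∧ Nice 𝓘 V ∧ ∀ q : ℕ,
      Subsingleton (Coh.HH (σ ⁻¹ᵁ V.1 : X.Opens) (L.restrict (σ ⁻¹ᵁ V.1).ι) (q + 1))) :
    IsZero ((Coh.RpushAb σ p).obj (Coh.toAb
      ((Scheme.Modules.pushforward (BlowUp.exceptional σ 𝓘).subschemeι).obj
        ((Scheme.Modules.pullback (BlowUp.exceptional σ 𝓘).subschemeι).obj L)))) := by
  have hLi : PicF.IsInvertible L := Groth.PicAux.isInvertible_of_isInverseOf
    (Groth.PicAux.isInvertible_idealMod (show BlowUp.IsEffCartierIdeal (BlowUp.exceptional σ 𝓘) from hσ.1))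
    (Groth.PicAux.isInverseOf_symm hL)
  haveI := isQuasicoherent_push_pullback (BlowUp.exceptional σ 𝓘) hLi
  refine isZero_RpushAb_of_subsingleton σ _ p fun y => ?_
  obtain ⟨V, hyV, hV, hVL⟩ := hv y
  obtain ⟨q, rfl⟩ : ∃ q, p = q + 1 := ⟨p - 1, by omega⟩
  refine ⟨V, hyV, subsingleton_HH_restrict_push _ hLi _ _ ?_ (hVL q)⟩
  obtain ⟨t⟩ := Groth.PicAux.isInverseOf_symm hL
  exact Groth.ResolveSurf.RegularRational.subsingleton_HH_of_iso
    ((Scheme.Modules.restrictFunctor (σ ⁻¹ᵁ V.1).ι).mapIso t) _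
    (subsingleton_HH_structure σ hnice hσ (q + 1) hV)

end Groth.BlowUpVanish
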