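import Groth.Agent.BlowUpVanish.Colon
import Groth.Agent.BlowUpVanish.Restrict
import Groth.Agent.BlowUpVanish.Centre
import Groth.Agent.BlowUpBasics.CartierDiv
import Groth.Agent.Divisors.EffCartierMore
import Groth.Agent.PicAux.PullTensor
import Groth.Agent.CurveDiv.Transition

/-!
# The inverse of the exceptional ideal
-/

set_option autoImplicit false
set_option backward.isDefEq.respectTransparency.types false
universe u

open CategoryTheory CategoryTheory.Limits AlgebraicGeometry TopologicalSpace Opposite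
open Groth.BlowUpBasics RingTheory.Sequence
open Groth.CohBase (inter inter_le inter_comp)

namespace Groth.BlowUpVanish

variable {X Y : Scheme.{u}}

theorem nonempty_idealMod_sheafOf_span {R : Type u} [CommRing R] {c : R} (hc : c ∈ nonZeroDivisors R) :
    Nonempty (ClSub.idealMod (sheafOf (Ideal.span {c})) ≅ Coh.structureModule (Spec (CommRingCat.of R))) := by
  let W : (Spec (CommRingCat.of R)).affineOpens := ⟨⊤, isAffineOpen_top _⟩
  let c₀ : Γ(Spec (CommRingCat.of R), ⊤) := (Scheme.ΓSpecIso (CommRingCat.of R)).inv c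
  have hI : (sheafOf (Ideal.span {c})).ideal W = Ideal.span {c₀} := by
    rw [sheafOf_ideal_top, Ideal.map_span, Set.image_singleton]
  have hc₀ : c₀ ∈ nonZeroDivisors Γ(Spec (CommRingCat.of R), ⊤) :=
    Groth.BlowUpBasics.map_mem_nonZeroDivisors_of_flat (RingHom.Flat.of_bijective
      (ConcreteCategory.bijective_of_isIso (Scheme.ΓSpecIso (CommRingCat.of R)).inv)) hc
  obtain ⟨k, hk⟩ := Groth.OmegaSheaf.exists_idealSect _ W (hI ▸ Ideal.mem_span_singleton_self c₀)
  have hgen := Groth.PicAux.gen_idealMod (I := sheafOf (Ideal.span {c})) W (k := k)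
    (by rw [hk]; exact Divisors.isNzdSec_of_mem W.2 hc₀) (by rw [hk]; exact hI)
  exact ⟨(Groth.CurveDiv.Transition.exists_iso_of_gen_top hgen (Groth.PicAux.gen_oneSec ⊤)).choose⟩

section Affine

variable {R : Type u} [CommRing R] {ι : Type u} {g : ι → R} {b : X ⟶ Spec (CommRingCat.of R)}

/-- The inverse of the exceptional ideal has no higher cohomology. -/
theorem GoodK.subsingleton_HH {i₁ : ι} (hG : GoodK R g i₁) (hc : g i₁ ∈ nonZeroDivisors R)
    (hb : BlowUp.IsBlowUp b (sheafOf (Ideal.span (Set.range g)))) {L : X.Modules}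
    (hL : ClSub.IsInverseOf L (ClSub.idealMod ((sheafOf (Ideal.span (Set.range g))).comap b))) (p : ℕ) :
    Subsingleton (Coh.HH X L (p + 1)) := by
  obtain ⟨C, hCe⟩ := hG X b hb
  set E := (sheafOf (Ideal.span (Set.range g))).comap b with hE
  set J := (sheafOf (Ideal.span {g i₁})).comap b with hJ
  have hJV : ∀ {n : ℕ} (x : Fin (n + 1) → ι),
      J.ideal ⟨C.V x, C.affine x⟩ = Ideal.span {C.str x (g i₁)} := fun x => by
    rw [hJ, ideal_comap_sheafOf, Ideal.map_span, Set.image_singleton]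
  have hEV : ∀ {n : ℕ} (x : Fin (n + 1) → ι),
      E.ideal ⟨C.V x, C.affine x⟩ = Ideal.span {C.str x (g (x 0))} := fun x =>
    C.gen (x 0) ⟨C.V x, C.affine x⟩ (inter_le (X := X.toTopCat) C.U x 0)
  have hJc : BlowUp.IsEffCartierIdeal J := fun z => by
    obtain ⟨i, hi⟩ := Opens.mem_iSup.1 (C.cover.ge (Opens.mem_top z))
    refine ⟨⟨C.V ![i], C.affine ![i]⟩, ?_, _, C.str_mem_nonZeroDivisors hb hc ![i], hJV ![i]⟩
    change z ∈ C.V ![i]
    rw [Cov.V, Groth.CohBase.inter_one (X := X.toTopCat)]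
    exact hi
  have hle : J ≤ E := Scheme.IdealSheafData.comap_mono _ (sheafOf_le_iff.2 (Ideal.span_mono (by simp)))
  obtain ⟨K, hK⟩ := exists_eq_mul_of_le (show BlowUp.IsEffCartierIdeal E from hb.1) hle
  have hKc : BlowUp.IsEffCartierIdeal K :=
    Groth.Divisors.isEffCartierIdeal_left_of_mul (I := K) (J := E) (hK ▸ hJc)
  -- the colon ideal on the intersections
  have hKV : ∀ {n : ℕ} (x : Fin (n + 1) → ι) (s : Γ(X, C.V x)),
      s ∈ K.ideal ⟨C.V x, C.affine x⟩ ↔ C.str x (g i₁) ∣ s * C.str x (g (x 0)) := fun x s => by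
    have h : Ideal.span {C.str x (g i₁)} =
        K.ideal ⟨C.V x, C.affine x⟩ * Ideal.span {C.str x (g (x 0))} := by
      rw [← hJV x, ← hEV x, hK, Scheme.IdealSheafData.ideal_mul, Pi.mul_apply]
    rw [← Ideal.mem_span_singleton, h, Ideal.mem_mul_span_singleton]
    exact ⟨fun hs => ⟨s, hs, rfl⟩, fun ⟨s', hs', he⟩ =>
      (mul_cancel_right_mem_nonZeroDivisors (C.mem_nonZeroDivisors hb.1 x 0)).1 he ▸ hs'⟩
  -- Čech exactness
  have hC : ∀ p, Groth.CohBase.CechExact (X := X.toTopCat) C.U (ClSub.idealMod K).presheaf p := fun p => by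
    intro s hs
    let s' : C.Co (p + 1) := fun x => OmegaSh.idealSect K (C.V x) (s x)
    have hdc : ∀ {n : ℕ} (t : Groth.CohBase.Coch (X := X.toTopCat) C.U (ClSub.idealMod K).presheaf n)
        (x : Fin (n + 2) → ι), OmegaSh.idealSect K (C.V x)
          (Groth.CohBase.dCoch (X := X.toTopCat) C.U (ClSub.idealMod K).presheaf n t x) =
        C.d n (fun y => OmegaSh.idealSect K (C.V y) (t y)) x := fun {n} t x => by
      rw [Groth.CohBase.dCoch_apply, map_sum, Cov.d_apply]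
      refine Finset.sum_congr rfl fun a _ => ?_
      rw [map_zsmul]
      exact congrArg (((-1 : ℤ) ^ (a : ℕ)) • ·) (Groth.OmegaSheaf.idealSect_res K
        (inter_comp (X := X.toTopCat) C.U x a.succAbove) (t _))
    obtain ⟨t, htJ, ht⟩ := hCe p s'
      (fun x => (hKV x _).1 (Groth.OmegaSheaf.idealSect_mem K ⟨C.V x, C.affine x⟩ (s x)))
      (funext fun x => (hdc s x).symm.trans ((congrArg _ (congrFun hs x)).trans (map_zero _)))
    choose t' ht' using fun x =>
      Groth.OmegaSheaf.exists_idealSect K ⟨C.V x, C.affine x⟩ (x := t x) ((hKV x _).2 (htJ x))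
    refine ⟨t', funext fun x => Groth.OmegaSheaf.idealSect_injective K (C.V x) ?_⟩
    rw [hdc]
    rw [show (fun y => OmegaSh.idealSect K (C.V y) (t' y)) = t from funext ht']
    exact congrFun ht x
  -- identify the inverse
  obtain ⟨e₁⟩ := Groth.PicAux.idealMod_mul hKc (show BlowUp.IsEffCartierIdeal E from hb.1)
  obtain ⟨e₂⟩ := Groth.PicAux.pullback_idealMod b (isEffCartierIdeal_sheafOf_span hc) hJc
  obtain ⟨e₃⟩ := nonempty_idealMod_sheafOf_span hc
  haveI := Groth.PicAux.isIso_pullUnit b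
  have hKE : ClSub.IsInverseOf (ClSub.idealMod K) (ClSub.idealMod E) :=
    ⟨e₁ ≪≫ eqToIso (by rw [← hK]) ≪≫ e₂.symm ≪≫ (Scheme.Modules.pullback b).mapIso e₃ ≪≫
      asIso (Groth.PicAux.pullUnit b)⟩
  obtain ⟨eL⟩ := Groth.PicAux.isInverseOf_unique (Groth.PicAux.isInverseOf_symm hL)
    (Groth.PicAux.isInverseOf_symm hKE)
  refine Groth.ResolveSurf.RegularRational.subsingleton_HH_of_iso eL _ ?_
  obtain ⟨e⟩ := Groth.CohBase.nonempty_cech_equiv_H C.U C.cover (fun x => C.affine x)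
    (ClSub.idealMod K) (p + 1)
  haveI := AddCommGrpCat.subsingleton_of_isZero
    ((Groth.CohBase.isZero_homology_iff (X := X.toTopCat) C.U _ p).2 (hC p))
  exact e.symm.toEquiv.subsingleton

end Affine

section Global

variable (σ : X ⟶ Y) {𝓘 : Y.IdealSheafData} (hσ : BlowUp.IsBlowUp σ 𝓘)

include hσ in
theorem subsingleton_HH_inv_preimage {L : X.Modules} (hL : ClSub.IsInverseOf L (ClSub.idealMod (𝓘.comap σ)))
    {V : Y.affineOpens} (rs : List Γ(Y, V.1)) (h2 : 2 ≤ rs.length) (hrs : IsWeaklyRegular Γ(Y, V.1) rs)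
    (hid : 𝓘.ideal V = Ideal.ofList rs) (p : ℕ) :
    Subsingleton (Coh.HH (σ ⁻¹ᵁ V.1 : X.Opens) (L.restrict (σ ⁻¹ᵁ V.1).ι) (p + 1)) := by
  have hr : Ideal.span (Set.range (rs.get ∘ ULift.down.{u})) = 𝓘.ideal V := by
    rw [hid, ULift.down_surjective.range_comp, Set.range_list_get]
  have hf : IsWeaklyRegular Γ(Y, V.1) (List.ofFn rs.get) := by rwa [List.ofFn_get]
  have hb : BlowUp.IsBlowUp (Groth.CohBase.preimageToSpec σ (V := V.1))
      (sheafOf (Ideal.span (Set.range (rs.get ∘ ULift.down.{u})))) := by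
    rw [hr, ← HTopHyper.comap_fromSpec 𝓘 V]
    exact isBlowUp_of_isPullback hσ (Groth.CohBase.isPullback_preimageToSpec σ V.2).flip
  have hE : (sheafOf (Ideal.span (Set.range (rs.get ∘ ULift.down.{u})))).comap
      (Groth.CohBase.preimageToSpec σ (V := V.1)) = 𝓘.comap ((σ ⁻¹ᵁ V.1).ι ≫ σ) := by
    rw [hr, ← HTopHyper.comap_fromSpec 𝓘 V, ← Scheme.IdealSheafData.comap_comp,
      (Groth.CohBase.isPullback_preimageToSpec σ V.2).w]
  obtain ⟨e⟩ := nonempty_restrict_pow_iso σ hσ (σ ⁻¹ᵁ V.1) 1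
  rw [pow_one, pow_one, ← hE] at e
  obtain ⟨t, -⟩ := Groth.PicAux.exists_pullback_tensorMod (σ ⁻¹ᵁ V.1).ι L (ClSub.idealMod (𝓘.comap σ))
  obtain ⟨l⟩ := hL
  haveI := Groth.PicAux.isIso_pullUnit (σ ⁻¹ᵁ V.1).ι
  refine GoodK.subsingleton_HH (goodK_of_isWeaklyRegular h2 rs.get hf)
    (Chain.fst_mem_nonZeroDivisors rs.get hf (by omega)) hb ?_ p
  exact ⟨PicGrp.tensorModIso ((Scheme.Modules.restrictFunctorIsoPullback (σ ⁻¹ᵁ V.1).ι).app L)
      (e.symm ≪≫ (Scheme.Modules.restrictFunctorIsoPullback (σ ⁻¹ᵁ V.1).ι).app _) ≪≫ t.symm ≪≫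
    (Scheme.Modules.pullback (σ ⁻¹ᵁ V.1).ι).mapIso l ≪≫ asIso (Groth.PicAux.pullUnit (σ ⁻¹ᵁ V.1).ι)⟩

include hσ in
/-- Off the centre the inverse has no higher cohomology on affine opens. -/
theorem subsingleton_HH_preimage_disjoint (L : X.Modules) [L.IsQuasicoherent] {V : Y.affineOpens}
    (hd : Disjoint (𝓘.support : Set Y) (V.1 : Set Y)) (p : ℕ) :
    Subsingleton (Coh.HH (σ ⁻¹ᵁ V.1 : X.Opens) (L.restrict (σ ⁻¹ᵁ V.1).ι) (p + 1)) := by
  haveI : IsIso (σ ∣_ V.1) := isIso_morphismRestrict hσ V.1 hd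
  haveI : IsAffine (V.1 : Scheme.{u}) := V.2
  haveI : IsAffine (σ ⁻¹ᵁ V.1 : X.Opens).toScheme := IsAffine.of_isIso (σ ∣_ V.1)
  exact @Equiv.subsingleton _ _ (Groth.CohBase.equivHTop _ _).toEquiv
    (Groth.CohBase.hVanish_of_isAffineOpen _ (isAffineOpen_top _) p)

end Global

end Groth.BlowUpVanish
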