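import Groth.Agent.BlowUpVanish.Sheaf
import Groth.Agent.Ega4Algebra2.RegularImmersion
import Groth.Agent.Ega4Algebra2.RegularIdeal
import Groth.Agent.VarietyBC.CotangentInjective

/-!
# Regular closed points as centres
-/

set_option autoImplicit false
set_option backward.isDefEq.respectTransparency.types false
universe u

open CategoryTheory CategoryTheory.Limits AlgebraicGeometry TopologicalSpace Opposite

namespace Groth.BlowUpVanish

open IsLocalRing in
/-- The maximal ideal of a regular local ring is generated by a regular sequence. -/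
theorem isRegularIdeal_maximalIdeal (R : Type u) [CommRing R] [IsRegularLocalRing R] :
    CInt.IsRegularIdeal (maximalIdeal R) := by
  let b := Module.finBasis (ResidueField R) (CotangentSpace R)
  choose g hg using fun i => (maximalIdeal R).toCotangent_surjective (b i)
  let f : Fin _ → R := fun i => (g i : R)
  have hspan : Ideal.span (Set.range f) = maximalIdeal R :=
    Groth.VarietyBC.CotInj.span_eq_maximalIdeal g (by rw [funext hg]; exact b.span_eq)
  have he : Ideal.ofList (List.ofFn f) = maximalIdeal R := by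
    refine (congrArg Ideal.span (Set.ext fun x => ?_)).trans hspan
    simp [List.mem_ofFn]
  refine ⟨List.ofFn f, ⟨Groth.Ega4b.isWeaklyRegular_of_independent_mod_sq _ R f (fun i => (g i).2)
    fun a ha i => ?_, ?_⟩, he⟩
  · have h2 : ∑ i, residue R (a i) • b i = 0 := by
      rw [← show (maximalIdeal R).toCotangent (∑ i, a i • g i) = ∑ i, residue R (a i) • b i from by
        rw [map_sum]
        refine Finset.sum_congr rfl fun i _ => ?_
        rw [map_smul, hg, ← algebraMap_smul (ResidueField R) (a i)]
        rfl]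
      rw [Ideal.toCotangent_eq_zero, Submodule.coe_sum]
      exact ha
    exact (residue_eq_zero_iff _).mp (Fintype.linearIndependent_iff.mp b.linearIndependent _ h2 i)
  · intro h
    rw [he, smul_eq_mul, Ideal.mul_top] at h
    exact (maximalIdeal.isMaximal R).ne_top h.symm

/-- A closed point with regular local ring of positive dimension is a nice centre. -/
theorem nice_of_point {Y : Scheme.{u}} [IsLocallyNoetherian Y] (p : Y) (hp : IsClosed ({p} : Set Y))
    [IsRegularLocalRing (Y.presheaf.stalk p)] (hdim : ringKrullDim (Y.presheaf.stalk p) ≠ 0) (y : Y) :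
    ∃ V : Y.affineOpens, y ∈ V.1 ∧ Nice (Scheme.IdealSheafData.vanishingIdeal ⟨{p}, hp⟩) V := by
  set I := Scheme.IdealSheafData.vanishingIdeal (X := Y) ⟨{p}, hp⟩ with hI
  have hker : I.subschemeι.ker = I := Scheme.IdealSheafData.ker_subschemeι I
  have hsupp : (I.support : Set Y) = {p} := by
    rw [hI]; rfl
  by_cases hy : y = p
  · subst hy
    have hrange : y ∈ Set.range I.subschemeι := by
      rw [I.range_subschemeι, hsupp]; rfl
    obtain ⟨z, hz⟩ := hrange
    have hmax : ∀ (U : Y.Opens) (hU : IsAffineOpen U) (hzU : I.subschemeι z ∈ U),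
        RingHom.ker (I.subschemeι.stalkMap z).hom =
          IsLocalRing.maximalIdeal (Y.presheaf.stalk (I.subschemeι z)) := fun U hU hzU => by
      rw [Groth.Ega4b.ker_stalkMap_eq_map I.subschemeι hU z hzU, hker,
        show I.ideal ⟨U, hU⟩ = PrimeSpectrum.vanishingIdeal (hU.fromSpec ⁻¹' ({y} : Set Y)) from
          Scheme.IdealSheafData.vanishingIdeal_ideal ..]
      letI := (Y.presheaf.germ U (I.subschemeι z) hzU).hom.toAlgebra
      haveI : IsLocalization.AtPrime (Y.presheaf.stalk (I.subschemeι z))
          (hU.primeIdealOf ⟨_, hzU⟩).asIdeal := hU.isLocalization_stalk ⟨_, hzU⟩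
      have hfib : hU.fromSpec ⁻¹' ({y} : Set Y) = {hU.primeIdealOf ⟨_, hzU⟩} := by
        ext w
        constructor
        · intro hw
          exact hU.fromSpec.isOpenEmbedding.injective ((Set.mem_singleton_iff.1 hw).trans
            (hz.symm.trans (hU.fromSpec_primeIdealOf ⟨_, hzU⟩).symm))
        · rintro rfl
          exact (hU.fromSpec_primeIdealOf ⟨_, hzU⟩).trans hz
      refine Eq.trans ?_ (IsLocalization.AtPrime.map_eq_maximalIdeal (hU.primeIdealOf ⟨_, hzU⟩).asIdeal _)
      refine congrArg (Ideal.map _) ?_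
      exact (congrArg PrimeSpectrum.vanishingIdeal hfib).trans (PrimeSpectrum.vanishingIdeal_singleton _)
    have hreg : ∀ w : I.subscheme, CInt.IsRegularIdeal (RingHom.ker (I.subschemeι.stalkMap w).hom) := fun w => by
      have hw : w = z := I.subschemeι.isClosedEmbedding.injective ((by
        have : I.subschemeι w ∈ (I.support : Set Y) := I.range_subschemeι.le ⟨w, rfl⟩
        rw [hsupp] at this
        exact this : I.subschemeι w = y).trans hz.symm)
      subst hw
      obtain ⟨_, ⟨U, hU, rfl⟩, hU', -⟩ :=
        Y.isBasis_affineOpens.exists_subset_of_mem_open (Set.mem_univ (I.subschemeι w)) isOpen_univ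
      rw [hmax U hU hU']
      haveI : IsRegularLocalRing (Y.presheaf.stalk (I.subschemeι w)) := by rw [hz]; infer_instance
      exact isRegularIdeal_maximalIdeal _
    obtain ⟨U, hU, hzU, rs, hrs, hid⟩ := ((Groth.Ega4b.isRegularClosedImmersion_iff I.subschemeι).2 hreg).2 z
    rw [hker] at hid
    refine ⟨⟨U, hU⟩, hz ▸ hzU, Or.inl ⟨rs, ?_, RingTheory.Sequence.IsRegular.toIsWeaklyRegular hrs, hid⟩⟩
    rintro rfl
    have h1 := hmax U hU hzU
    rw [Groth.Ega4b.ker_stalkMap_eq_map I.subschemeι hU z hzU, hker, hid, Ideal.ofList_nil,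
      Ideal.map_bot] at h1
    refine hdim ?_
    rw [show y = I.subschemeι z from hz.symm]
    exact ringKrullDim_eq_zero_of_isField (IsLocalRing.isField_iff_maximalIdeal_eq.2 h1.symm)
  · obtain ⟨_, ⟨V, hV, rfl⟩, hyV, hVp⟩ :=
      Y.isBasis_affineOpens.exists_subset_of_mem_open (show y ∈ ({p}ᶜ : Set Y) from hy) hp.isOpen_compl
    refine ⟨⟨V, hV⟩, hyV, Or.inr ?_⟩
    rw [hsupp]
    exact Set.disjoint_left.2 fun w hw hwV => hVp hwV hw

end Groth.BlowUpVanish
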