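import Groth.Agent.EGA41Two.GrLength
import Groth.Agent.Cycles.NormScheme
import Groth.Agent.EulerDeg.FiniteSupport
import Groth.Agent.EulerDeg.Supported
import Groth.Agent.Inter.NakaiCor
import Groth.Agent.BlowUpBasics.AffineBase
import Mathlib.RingTheory.LocalRing.Length
import Mathlib.RingTheory.Jacobson.Ring

/-!
# The Euler characteristic of the fat points of a regular surface
-/

set_option autoImplicit false
set_option backward.isDefEq.respectTransparency.types false
universe u

open CategoryTheory CategoryTheory.Limits AlgebraicGeometry TopologicalSpace Opposite IsLocalRing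

namespace Groth.BlowUpVanish

section Algebra

variable (k : Type u) [Field k] {A : Type u} [CommRing A] [Algebra k A]

/-- The colength of a power of a rational point of a regular surface. -/
theorem finrank_quot_pow_eq (M : Ideal A) [M.IsMaximal]
    (hres : Function.Surjective (algebraMap k (A ⧸ M))) (S : Type u) [CommRing S] [Algebra A S]
    [IsLocalization.AtPrime S M] [IsRegularLocalRing S] (hdim : ringKrullDim S = 2) (b : ℕ) :
    Module.finrank k (A ⧸ M ^ b) = (b + 1).choose 2 := by
  obtain rfl | ⟨s, rfl⟩ : b = 0 ∨ ∃ s, b = s + 1 := by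
    rcases b with _ | s
    · exact Or.inl rfl
    · exact Or.inr ⟨s, rfl⟩
  · haveI : Subsingleton (A ⧸ M ^ 0) := Ideal.Quotient.subsingleton_iff.2 (by simp)
    simp [Module.finrank_zero_of_subsingleton]
  haveI : IsLocalRing S := IsLocalization.AtPrime.isLocalRing S M
  let e := IsLocalization.AtPrime.equivQuotMaximalIdealPow M S (s + 1)
  haveI : Nontrivial (A ⧸ M ^ (s + 1)) := Ideal.Quotient.nontrivial_iff.2 fun h =>
    (inferInstance : M.IsMaximal).ne_top (top_le_iff.1 (h ▸ Ideal.pow_le_self (Nat.succ_ne_zero s)))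
  haveI : IsLocalRing (S ⧸ maximalIdeal S ^ (s + 1)) :=
    haveI : Nontrivial (S ⧸ maximalIdeal S ^ (s + 1)) := e.symm.toEquiv.nontrivial
    IsLocalRing.of_surjective' _ Ideal.Quotient.mk_surjective
  haveI : IsLocalRing (A ⧸ M ^ (s + 1)) := e.toRingEquiv.symm.isLocalRing
  have hd2 : Module.finrank (ResidueField S) (CotangentSpace S) = 2 := by
    have := (IsRegularLocalRing.iff_finrank_cotangentSpace S).1 inferInstance
    rw [hdim] at this
    exact_mod_cast this
  have hlen : Module.length (A ⧸ M ^ (s + 1)) (A ⧸ M ^ (s + 1)) = ((s + 2).choose 2 : ℕ) := by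
    have h1 := (Groth.EGA41Two.GrLength.regular_iff (A := S)).1 inferInstance s
    rw [hd2, Nat.choose_symm_add] at h1
    rw [← h1, Module.length_eq_of_surjective (M := S ⧸ maximalIdeal S ^ (s + 1))
      (S := S) (R := S ⧸ maximalIdeal S ^ (s + 1)) Ideal.Quotient.mk_surjective]
    letI := e.toRingEquiv.toRingHom.toAlgebra
    rw [← Module.length_eq_of_surjective (M := S ⧸ maximalIdeal S ^ (s + 1))
      (S := A ⧸ M ^ (s + 1)) (R := S ⧸ maximalIdeal S ^ (s + 1)) e.toRingEquiv.surjective]
    exact LinearEquiv.length_eq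
      { e.toRingEquiv.toAddEquiv with map_smul' := fun a x => map_mul e.toRingEquiv a x }
  haveI : IsLocalHom (algebraMap k (A ⧸ M ^ (s + 1))) := ⟨fun a ha => by
    refine Ne.isUnit fun h0 => ?_
    rw [h0, map_zero] at ha
    exact not_isUnit_zero ha⟩
  have hr : Module.length (ResidueField k) (ResidueField (A ⧸ M ^ (s + 1))) = 1 := by
    have hs : Function.Surjective (algebraMap (ResidueField k) (ResidueField (A ⧸ M ^ (s + 1)))) := by
      intro x
      obtain ⟨y, rfl⟩ := residue_surjective x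
      obtain ⟨a, rfl⟩ := Ideal.Quotient.mk_surjective y
      obtain ⟨c, hc⟩ := hres (Ideal.Quotient.mk M a)
      refine ⟨residue k c, ?_⟩
      rw [IsScalarTower.algebraMap_apply k A (A ⧸ M), Ideal.Quotient.algebraMap_eq,
        Ideal.Quotient.eq] at hc
      change residue (A ⧸ M ^ (s + 1)) (algebraMap k _ c) = _
      rw [IsScalarTower.algebraMap_apply k A (A ⧸ M ^ (s + 1)), Ideal.Quotient.algebraMap_eq,
        ← sub_eq_zero, ← map_sub, ← map_sub, residue_eq_zero_iff]
      intro hu
      obtain ⟨v, hv⟩ := hu.exists_right_inv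
      obtain ⟨v, rfl⟩ := Ideal.Quotient.mk_surjective v
      rw [← map_mul, ← map_one (Ideal.Quotient.mk (M ^ (s + 1))), Ideal.Quotient.eq] at hv
      refine (inferInstance : M.IsMaximal).ne_top ((Ideal.eq_top_iff_one M).2 ?_)
      have h1 := Ideal.pow_le_self (Nat.succ_ne_zero s) hv
      exact (sub_sub_cancel _ (1 : A)) ▸ sub_mem (Ideal.mul_mem_right v M hc) h1
    rw [Module.length_eq_of_surjective hs, Module.length_eq_one_iff]
    infer_instance
  have h := IsLocalRing.length_restrictScalars k (A ⧸ M ^ (s + 1)) (A ⧸ M ^ (s + 1))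
  rw [hlen, hr, mul_one] at h
  rw [← Groth.Cycles.toNat_length_eq_finrank, h, ENat.toNat_natCast]

end Algebra

section Scheme

variable {k : Type u} [Field k] [IsAlgClosed k] {Y : Scheme.{u}} [Y.Over (Spec (CommRingCat.of k))]
  [IsProper (Y ↘ Spec (CommRingCat.of k))]

attribute [local instance] Groth.EulerDeg.secModule

/-- The fat point of order `b` of a regular surface point has `b(b+1)/2` as Euler characteristic. -/
theorem euler_quotMod_pow (p : Y) (hp : IsClosed ({p} : Set Y))
    [IsRegularLocalRing (Y.presheaf.stalk p)] (hdim : ringKrullDim (Y.presheaf.stalk p) = 2) (b : ℕ) :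
    Curv2.euler k Y (ClSub.quotMod (Scheme.IdealSheafData.vanishingIdeal ⟨{p}, hp⟩ ^ b)) =
      ((b + 1).choose 2 : ℕ) := by
  set J := Scheme.IdealSheafData.vanishingIdeal (X := Y) ⟨{p}, hp⟩ ^ b with hJ
  obtain ⟨hM, hsupp⟩ := Groth.Inter.support_quotMod (k := k) J
  have hN : IsNoetherian Y := Groth.Inter.isNoetherian k
  have hsub : CohB1.support (ClSub.quotMod J) ⊆ ({p} : Finset Y) := by
    rw [hsupp, Finset.coe_singleton]
    intro y hy
    by_contra hne
    obtain ⟨_, ⟨W, hW, rfl⟩, hyW, hWp⟩ := Y.isBasis_affineOpens.exists_subset_of_mem_open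
      (show y ∈ ({p}ᶜ : Set Y) from hne) hp.isOpen_compl
    have htop : (Scheme.IdealSheafData.vanishingIdeal (X := Y) ⟨{p}, hp⟩).ideal ⟨W, hW⟩ = ⊤ := by
      rw [Scheme.IdealSheafData.vanishingIdeal_ideal, PrimeSpectrum.vanishingIdeal_eq_top_iff,
        Set.eq_empty_iff_forall_notMem]
      intro z hz
      have hzW : hW.fromSpec z ∈ W := by rw [← SetLike.mem_coe, ← hW.range_fromSpec]; exact ⟨z, rfl⟩
      exact hWp hzW hz
    rw [SetLike.mem_coe, J.mem_support_iff_of_mem (U := ⟨W, hW⟩) hyW, Scheme.mem_zeroLocus_iff] at hy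
    refine hy 1 ?_ (by rw [Scheme.basicOpen_of_isUnit _ isUnit_one]; exact hyW)
    rw [hJ, Scheme.IdealSheafData.ideal_pow, Pi.pow_apply, htop, Ideal.top_pow]
    trivial
  have hclosed : ∀ y ∈ ({p} : Finset Y), IsClosed ({y} : Set Y) := fun y hy => by
    rw [Finset.mem_singleton.1 hy]; exact hp
  obtain ⟨_, ⟨V, hV, rfl⟩, hpV, -⟩ :=
    Y.isBasis_affineOpens.exists_subset_of_mem_open (Set.mem_univ p) isOpen_univ
  change IsAffineOpen V at hV
  haveI : Module.Finite k (Coh.HH Y (ClSub.quotMod J) 0) := (Groth.Inter.finCoh k hM).finite 0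
  rw [Groth.EulerDeg.euler_eq_h0 k (fun y hy => hclosed y (hsub hy)),
    Groth.EulerDeg.finrank_h0_eq_sum k hsub hclosed (fun _ => V)
      (fun x => by rw [Finset.mem_singleton.1 x.2]; exact hpV)
      (fun x y _ => Subtype.ext ((Finset.mem_singleton.1 y.2).trans (Finset.mem_singleton.1 x.2).symm))]
  rw [Fintype.sum_unique]
  norm_cast
  letI : Algebra k Γ(Y, V) := (Groth.EulerDeg.toSec k V).toAlgebra
  let ψ : Γ(Y, V) →ₗ[k] Γ(ClSub.quotMod J, V) :=
    { toFun := fun t => (J.subschemeι.app V t :)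
      map_add' := fun _ _ => map_add _ _ _
      map_smul' := fun a t => map_mul (J.subschemeι.app V).hom _ t }
  have hψ : Function.Surjective ψ := J.subschemeι.app_surjective V hV
  have hker : LinearMap.ker ψ = (J.ideal ⟨V, hV⟩).restrictScalars k := by
    ext t
    rw [LinearMap.mem_ker, Submodule.restrictScalars_mem, ← Scheme.IdealSheafData.ker_subschemeι_app]
    exact Iff.rfl
  rw [← (LinearMap.quotKerEquivOfSurjective ψ hψ).finrank_eq, hker]
  rw [LinearEquiv.finrank_eq (Submodule.Quotient.restrictScalarsEquiv k (J.ideal ⟨V, hV⟩))]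
  -- the maximal ideal of the point
  set q := hV.primeIdealOf ⟨p, hpV⟩ with hq
  have hfib : hV.fromSpec ⁻¹' ({p} : Set Y) = {q} := by
    ext z
    constructor
    · intro hz
      exact hV.fromSpec.isOpenEmbedding.injective
        ((Set.mem_singleton_iff.1 hz).trans (hV.fromSpec_primeIdealOf ⟨p, hpV⟩).symm)
    · rintro rfl
      exact hV.fromSpec_primeIdealOf ⟨p, hpV⟩
  have hq' : IsClosed ({q} : Set (PrimeSpectrum Γ(Y, V))) := hfib ▸ hp.preimage hV.fromSpec.continuous
  haveI : q.asIdeal.IsMaximal := (PrimeSpectrum.isClosed_singleton_iff_isMaximal q).1 hq'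
  have hMV : (Scheme.IdealSheafData.vanishingIdeal (X := Y) ⟨{p}, hp⟩).ideal ⟨V, hV⟩ = q.asIdeal := by
    rw [Scheme.IdealSheafData.vanishingIdeal_ideal]
    change PrimeSpectrum.vanishingIdeal (hV.fromSpec ⁻¹' ({p} : Set Y)) = _
    exact (congrArg PrimeSpectrum.vanishingIdeal hfib).trans (PrimeSpectrum.vanishingIdeal_singleton q)
  rw [hJ, Scheme.IdealSheafData.ideal_pow, Pi.pow_apply, hMV]
  -- the residue field
  have hφ : Groth.EulerDeg.toSec k V = Groth.BlowUpBasics.phi (Y ↘ Spec (CommRingCat.of k)) V := by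
    ext a
    change Groth.QCohMod.resFun Y _ _ = _
    rw [Groth.BlowUpBasics.phi_restrict _ (le_top : V ≤ ⊤), RingHom.comp_apply]
    refine congrArg (Y.presheaf.map (homOfLE (le_top : V ≤ ⊤)).op) ?_
    change (Y ↘ Spec (CommRingCat.of k)).appTop _ = _
    rw [Groth.BlowUpBasics.phi, Scheme.Hom.appLE]
    erw [CategoryTheory.Functor.map_id, Category.comp_id]
    rfl
  haveI : Algebra.FiniteType k Γ(Y, V) := by
    have h1 : (Groth.BlowUpBasics.phi (Y ↘ Spec (CommRingCat.of k)) V).FiniteType :=
      RingHom.FiniteType.comp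
        ((Y ↘ Spec (CommRingCat.of k)).finiteType_appLE (isAffineOpen_top _) hV
          (Groth.BlowUpBasics.le_preimage_top _ V))
        (RingHom.FiniteType.of_surjective _
          (ConcreteCategory.bijective_of_isIso (Scheme.ΓSpecIso (CommRingCat.of k)).inv).2)
    rw [← hφ] at h1
    exact h1
  letI := Ideal.Quotient.field q.asIdeal
  haveI : Module.Finite k (Γ(Y, V) ⧸ q.asIdeal) := finite_of_finite_type_of_isJacobsonRing k _
  have hres : Function.Surjective (algebraMap k (Γ(Y, V) ⧸ q.asIdeal)) :=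
    IsAlgClosed.algebraMap_bijective_of_isIntegral.2
  letI : Algebra Γ(Y, V) (Y.presheaf.stalk p) := (Y.presheaf.germ V p hpV).hom.toAlgebra
  haveI : IsLocalization.AtPrime (Y.presheaf.stalk p) q.asIdeal := hV.isLocalization_stalk ⟨p, hpV⟩
  exact finrank_quot_pow_eq k q.asIdeal hres (Y.presheaf.stalk p) hdim b

end Scheme

end Groth.BlowUpVanish
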