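import Groth.Agent.BlowUpVanish.Chain
import Groth.Agent.CohBase.CechScheme
import Groth.Agent.OmegaSheaf.IdealMod
import Groth.Agent.PicAux.EffCartierLine
import Groth.Agent.PicAux.EffCartierSection
import Groth.Agent.Divisors.EffCartier
import Groth.Agent.CohBase.RpushAffineLin
import Groth.Agent.PicAux.H0Universal
import Groth.Agent.PicAux.Pullback
import Groth.Agent.Limits.FibreVanishing
import Groth.Agent.ResolveSurf.RegularRational
import Groth.Agent.Divisors.IdealComap
import Groth.Agent.SiteCohomology.SubSheafGerms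
import Groth.Agent.AlgGrp1.PushIso
import Mathlib.RingTheory.Regular.Flat

/-!
# Higher direct images of blow-ups along weakly regular ideals
-/

set_option autoImplicit false
set_option backward.isDefEq.respectTransparency.types false
set_option linter.style.haveILetI false
universe u

open CategoryTheory CategoryTheory.Limits AlgebraicGeometry TopologicalSpace Opposite
open Groth.BlowUpBasics RingTheory.Sequence
open Groth.CohBase (inter inter_le inter_comp)

namespace Groth.BlowUpVanish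

section Affine

variable {R : Type u} [CommRing R] {ι : Type u} {g : ι → R} {X : Scheme.{u}}
  {b : X ⟶ Spec (CommRingCat.of R)}

/-- Čech exactness for the powers of the exceptional ideal as modules. -/
theorem Cov.cechExact {C : Cov g b} {m : ℕ} (hC : C.Exact m) (p : ℕ) :
    Groth.CohBase.CechExact (X := X.toTopCat) C.U
      (ClSub.idealMod ((sheafOf (Ideal.span (Set.range g))).comap b ^ m)).presheaf p := by
  set E := (sheafOf (Ideal.span (Set.range g))).comap b ^ m with hE
  have hJ : ∀ {n : ℕ} (x : Fin (n + 1) → ι), E.ideal ⟨C.V x, C.affine x⟩ = C.J m x := fun {n} x => by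
    rw [hE, Scheme.IdealSheafData.ideal_pow, Pi.pow_apply,
      C.gen (x 0) ⟨C.V x, C.affine x⟩ (inter_le (X := X.toTopCat) C.U x 0), Ideal.span_singleton_pow]
    rfl
  intro s hs
  let s' : C.Co (p + 1) := fun x => OmegaSh.idealSect E (C.V x) (s x)
  have hdc : ∀ {n : ℕ} (t : Groth.CohBase.Coch (X := X.toTopCat) C.U (ClSub.idealMod E).presheaf n)
      (x : Fin (n + 2) → ι), OmegaSh.idealSect E (C.V x)
        (Groth.CohBase.dCoch (X := X.toTopCat) C.U (ClSub.idealMod E).presheaf n t x) =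
      C.d n (fun y => OmegaSh.idealSect E (C.V y) (t y)) x := fun {n} t x => by
    rw [Groth.CohBase.dCoch_apply, map_sum, Cov.d_apply]
    refine Finset.sum_congr rfl fun a _ => ?_
    rw [map_zsmul]
    exact congrArg (((-1 : ℤ) ^ (a : ℕ)) • ·) (Groth.OmegaSheaf.idealSect_res E
      (inter_comp (X := X.toTopCat) C.U x a.succAbove) (t _))
  obtain ⟨t, htJ, ht⟩ := hC p s' (fun x => hJ x ▸ Groth.OmegaSheaf.idealSect_mem E ⟨C.V x, C.affine x⟩ (s x))
    (funext fun x => (hdc s x).symm.trans ((congrArg _ (congrFun hs x)).trans (map_zero _)))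
  choose t' ht' using fun x =>
    Groth.OmegaSheaf.exists_idealSect E ⟨C.V x, C.affine x⟩ (x := t x) (hJ x ▸ htJ x)
  refine ⟨t', funext fun x => Groth.OmegaSheaf.idealSect_injective E (C.V x) ?_⟩
  rw [hdc]
  rw [show (fun y => OmegaSh.idealSect E (C.V y) (t' y)) = t from funext ht']
  exact congrFun ht x

/-- The positive degree cohomology of the powers of the exceptional ideal vanishes. -/
theorem Good.subsingleton_HH (hG : Good R g)
    (hb : BlowUp.IsBlowUp b (sheafOf (Ideal.span (Set.range g)))) (m p : ℕ) :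
    Subsingleton (Coh.HH X (ClSub.idealMod ((sheafOf (Ideal.span (Set.range g))).comap b ^ m)) (p + 1)) := by
  obtain ⟨C, hCe, -⟩ := hG X b hb
  obtain ⟨e⟩ := Groth.CohBase.nonempty_cech_equiv_H C.U C.cover (fun x => C.affine x)
    (ClSub.idealMod ((sheafOf (Ideal.span (Set.range g))).comap b ^ m)) (p + 1)
  have hz := (Groth.CohBase.isZero_homology_iff (X := X.toTopCat) C.U _ p).2 (C.cechExact (hCe m) p)
  haveI := AddCommGrpCat.subsingleton_of_isZero hz
  exact e.symm.toEquiv.subsingleton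

/-- The global functions are those of the base. -/
theorem Good.bijective_phi (hG : Good R g)
    (hb : BlowUp.IsBlowUp b (sheafOf (Ideal.span (Set.range g)))) :
    Function.Bijective (phi b ⊤) := by
  obtain ⟨C, -, hinj⟩ := hG X b hb
  have hres : ∀ (x : Fin 1 → ι) (r : R),
      X.presheaf.map (homOfLE (le_top : C.V x ≤ ⊤)).op (phi b ⊤ r) = C.str x r := fun x r =>
    (RingHom.congr_fun (phi_restrict b (le_top : C.V x ≤ ⊤)) r).symm
  constructor
  · rw [injective_iff_map_eq_zero]
    intro r hr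
    exact hinj.2 r fun x => by rw [← hres, hr, map_zero]
  · intro t
    obtain ⟨r, hr⟩ := hinj.1 (fun x => X.presheaf.map (homOfLE (le_top : C.V x ≤ ⊤)).op t) (by
      funext x
      rw [Cov.d_apply, Fin.sum_univ_succ, Fin.sum_univ_one]
      simp only [Fin.val_zero, pow_zero, one_smul, Fin.val_succ, zero_add, pow_one, neg_smul, one_smul,
        Pi.zero_apply, Cov.face, ← ConcreteCategory.comp_apply, ← Functor.map_comp]
      exact add_neg_cancel _)
    refine ⟨r, TopCat.Presheaf.section_ext X.sheaf ⊤ _ _ fun z _ => ?_⟩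
    obtain ⟨i, hi⟩ := Opens.mem_iSup.1 (C.cover.ge (Opens.mem_top z))
    have hz : z ∈ C.V ![i] := by
      rw [Cov.V, Groth.CohBase.inter_one (X := X.toTopCat)]
      exact hi
    have key : ∀ u : Γ(X, ⊤), X.presheaf.germ ⊤ z trivial u =
        X.presheaf.germ (C.V ![i]) z hz (X.presheaf.map (homOfLE le_top).op u) :=
      fun u => (X.presheaf.germ_res_apply _ z hz u).symm
    exact (key _).trans ((congrArg _ ((hres ![i] r).trans (hr ![i]).symm)).trans (key t).symm)

end Affine

section Global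

variable {X Y : Scheme.{u}} (σ : X ⟶ Y) (𝓘 : Y.IdealSheafData)

/-- An affine open on which the centre is weakly regular, or which misses it. -/
def Nice (V : Y.affineOpens) : Prop :=
  (∃ rs : List Γ(Y, V.1), rs ≠ [] ∧ IsWeaklyRegular Γ(Y, V.1) rs ∧ 𝓘.ideal V = Ideal.ofList rs) ∨
    Disjoint (𝓘.support : Set Y) (V.1 : Set Y)

variable {𝓘}

theorem Nice.basicOpen {V : Y.affineOpens} (hV : Nice 𝓘 V) (s : Γ(Y, V.1)) :
    Nice 𝓘 ⟨Y.basicOpen s, V.2.basicOpen s⟩ := by
  rcases hV with ⟨rs, hne, hrs, hid⟩ | hd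
  · let ρ := (Y.presheaf.map (homOfLE (Y.basicOpen_le s)).op).hom
    letI : Algebra Γ(Y, V.1) Γ(Y, Y.basicOpen s) := ρ.toAlgebra
    haveI : IsLocalization.Away s Γ(Y, Y.basicOpen s) := V.2.isLocalization_basicOpen s
    refine Or.inl ⟨rs.map ρ, by simpa using hne, ?_, ?_⟩
    · exact hrs.of_isLocalization Γ(Y, Y.basicOpen s) (Submonoid.powers s)
    · rw [← 𝓘.map_ideal (U := ⟨Y.basicOpen s, V.2.basicOpen s⟩) (V := V) (Y.basicOpen_le s), hid,
        Ideal.map_ofList]
      rfl
  · exact Or.inr (hd.mono_right (Y.basicOpen_le s))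

variable (hnice : ∀ y : Y, ∃ V : Y.affineOpens, y ∈ V.1 ∧ Nice 𝓘 V)
  (hσ : BlowUp.IsBlowUp σ 𝓘)

include hnice in
theorem exists_nice_le (O : Y.Opens) (y : Y) (hy : y ∈ O) :
    ∃ V : Y.affineOpens, y ∈ V.1 ∧ V.1 ≤ O ∧ Nice 𝓘 V := by
  obtain ⟨V, hyV, hV⟩ := hnice y
  obtain ⟨s, hs, hys⟩ := V.2.exists_basicOpen_le ⟨y, hy⟩ hyV
  exact ⟨_, hys, hs, hV.basicOpen s⟩

include hσ in
/-- The blow-up over a nice open. -/
theorem exists_good_of_nice {V : Y.affineOpens} (rs : List Γ(Y, V.1)) (hne : rs ≠ [])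
    (hrs : IsWeaklyRegular Γ(Y, V.1) rs) (hid : 𝓘.ideal V = Ideal.ofList rs) :
    ∃ (ι : Type u) (g : ι → Γ(Y, V.1)), Good Γ(Y, V.1) g ∧ 𝓘.ideal V = Ideal.span (Set.range g) ∧
      BlowUp.IsBlowUp (Groth.CohBase.preimageToSpec σ (V := V.1)) (sheafOf (Ideal.span (Set.range g))) := by
  have hr : Ideal.span (Set.range (rs.get ∘ ULift.down.{u})) = 𝓘.ideal V := by
    rw [hid, ULift.down_surjective.range_comp, Set.range_list_get]
  refine ⟨_, rs.get ∘ ULift.down.{u}, good_of_isWeaklyRegular (List.length_pos_iff.2 hne) rs.get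
    (by rwa [List.ofFn_get]), hr.symm, ?_⟩
  rw [hr, ← HTopHyper.comap_fromSpec 𝓘 V]
  exact isBlowUp_of_isPullback hσ (Groth.CohBase.isPullback_preimageToSpec σ V.2).flip

include hσ in
/-- The ideal of the exceptional divisor over an open. -/
theorem nonempty_restrict_pow_iso (W : X.Opens) (m : ℕ) :
    Nonempty ((ClSub.idealMod (𝓘.comap σ ^ m)).restrict W.ι ≅
      ClSub.idealMod ((𝓘.comap (W.ι ≫ σ)) ^ m)) := by
  have hC := Groth.Divisors.isEffCartierIdeal_pow hσ.1 m
  have hC' := isEffCartierIdeal_comap_of_flat W.ι hC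
  obtain ⟨e⟩ := Groth.PicAux.pullback_idealMod W.ι hC hC'
  refine ⟨(Scheme.Modules.restrictFunctorIsoPullback W.ι).app _ ≪≫ e ≪≫
    eqToIso (congrArg ClSub.idealMod ?_)⟩
  rw [Scheme.IdealSheafData.comap_comp]
  exact Groth.Divisors.comap_pow _ _ _

include hnice hσ in
/-- Cohomology over nice opens vanishes. -/
theorem subsingleton_HH_preimage (m p : ℕ) {V : Y.affineOpens} (hV : Nice 𝓘 V) :
    Subsingleton (Coh.HH (σ ⁻¹ᵁ V.1 : X.Opens)
      ((ClSub.idealMod (𝓘.comap σ ^ m)).restrict (σ ⁻¹ᵁ V.1).ι) (p + 1)) := by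
  obtain ⟨e⟩ := nonempty_restrict_pow_iso σ hσ (σ ⁻¹ᵁ V.1) m
  rcases hV with ⟨rs, hne, hrs, hid⟩ | hd
  · obtain ⟨ι, g, hG, hg, hb⟩ := exists_good_of_nice σ hσ rs hne hrs hid
    have hE : 𝓘.comap ((σ ⁻¹ᵁ V.1).ι ≫ σ) =
        (sheafOf (Ideal.span (Set.range g))).comap (Groth.CohBase.preimageToSpec σ (V := V.1)) := by
      rw [← hg, ← HTopHyper.comap_fromSpec 𝓘 V, ← Scheme.IdealSheafData.comap_comp,
        (Groth.CohBase.isPullback_preimageToSpec σ V.2).w]
    rw [hE] at e
    exact Groth.ResolveSurf.RegularRational.subsingleton_HH_of_iso e _ (hG.subsingleton_HH hb m p)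
  · haveI : IsIso (σ ∣_ V.1) := isIso_morphismRestrict hσ V.1 hd
    haveI : IsAffine (V.1 : Scheme.{u}) := V.2
    haveI : IsAffine (σ ⁻¹ᵁ V.1 : X.Opens).toScheme := IsAffine.of_isIso (σ ∣_ V.1)
    exact @Equiv.subsingleton _ _ (Groth.CohBase.equivHTop _ _).toEquiv
      (Groth.CohBase.hVanish_of_isAffineOpen _ (isAffineOpen_top _) p)

include hnice hσ in
/-- Higher direct images of the powers of the exceptional ideal vanish. -/
theorem isZero_RpushAb [QuasiCompact σ] [QuasiSeparated σ] (m : ℕ) {p : ℕ} (hp : 1 ≤ p) :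
    IsZero ((Coh.RpushAb σ p).obj (Coh.toAb (ClSub.idealMod (𝓘.comap σ ^ m)))) := by
  obtain ⟨q, rfl⟩ : ∃ q, p = q + 1 := ⟨p - 1, by omega⟩
  refine Groth.SiteCohomology.SubSheafGerms.isZero_of_stalks fun y a => ?_
  obtain ⟨V, hyV, hV⟩ := hnice y
  have hz := Groth.Limits.FibreVanishing.isZero_stalk_RpushAb σ (ClSub.idealMod (𝓘.comap σ ^ m)) (q + 1)
    V.2 y hyV (fun ξ => ⟨1, by rw [Scheme.basicOpen_of_isUnit _ isUnit_one]; exact hyV, by
      haveI := subsingleton_HH_preimage σ hnice hσ m q hV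
      exact Subsingleton.elim _ _⟩)
  have hz2 := (Groth.SiteCohomology.isZero_sfib_iff
    ((Coh.RpushAb σ (q + 1)).obj (Coh.toAb (ClSub.idealMod (𝓘.comap σ ^ m)))) y).2
    ((Groth.SiteCohomology.isZero_stalk_iff _ y).1 hz)
  exact @Subsingleton.elim _ (AddCommGrpCat.subsingleton_of_isZero hz2) a 0

omit hσ in
theorem toGlobal_eq_phi {R : Type u} [CommRing R] {Z : Scheme.{u}} (q : Z ⟶ Spec (CommRingCat.of R))
    (a : R) : Coh.toGlobal q a = phi q ⊤ a := by
  change q.appTop _ = _
  rw [phi, Scheme.Hom.appLE]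
  erw [CategoryTheory.Functor.map_id, Category.comp_id]
  rfl

include hσ in
theorem bijective_app_of_nice {V : Y.affineOpens} (hV : Nice 𝓘 V) :
    Function.Bijective (σ.app V.1) := by
  rcases hV with ⟨rs, hne, hrs, hid⟩ | hd
  · obtain ⟨ι, g, hG, hg, hb⟩ := exists_good_of_nice σ hσ rs hne hrs hid
    have h := hG.bijective_phi hb
    let T := (σ ⁻¹ᵁ V.1 : X.Opens)
    have key : ∀ a, σ.app V.1 a = Groth.QCohMod.resFun X (Scheme.Opens.ι_image_top T).ge
        ((T.ι.appIso ⊤).inv (phi (Groth.CohBase.preimageToSpec σ (V := V.1)) ⊤ a)) := fun a => by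
      refine (Groth.CohBase.appIso_preimageToSpec σ a).symm.trans ?_
      exact congrArg (fun t => Groth.QCohMod.resFun X (Scheme.Opens.ι_image_top T).ge
        ((T.ι.appIso ⊤).inv t)) (toGlobal_eq_phi (Groth.CohBase.preimageToSpec σ (V := V.1)) a)
    have hrf : Function.Bijective (Groth.QCohMod.resFun X (Scheme.Opens.ι_image_top T).ge) :=
      ⟨fun u v e => by
        have := congrArg (Groth.QCohMod.resFun X (Scheme.Opens.ι_image_top T).le) e
        rwa [Groth.QCohMod.resFun_resFun, Groth.QCohMod.resFun_resFun, Groth.QCohMod.resFun_self,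
          Groth.QCohMod.resFun_self] at this,
        fun u => ⟨Groth.QCohMod.resFun X (Scheme.Opens.ι_image_top T).le u, by
          rw [Groth.QCohMod.resFun_resFun, Groth.QCohMod.resFun_self]⟩⟩
    rw [show (σ.app V.1 : Γ(Y, V.1) → _) = _ from funext key]
    exact (hrf.comp (ConcreteCategory.bijective_of_isIso (T.ι.appIso ⊤).inv)).comp h
  · haveI : IsIso (σ ∣_ V.1) := isIso_morphismRestrict hσ V.1 hd
    haveI := Groth.ResolveSurf.PointContraction.isIso_app_of_isIso_restrict σ V.1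
    exact ConcreteCategory.bijective_of_isIso _

include hnice hσ in
theorem bijective_app (O : Y.Opens) : Function.Bijective (σ.app O) :=
  Groth.PicAux.Seesaw.app_bijective_of_basis σ (fun W => ∃ hW : IsAffineOpen W, Nice 𝓘 ⟨W, hW⟩)
    (fun _ hW => bijective_app_of_nice σ hσ hW.2)
    (fun V t ht => by
      obtain ⟨W, htW, hWV, hW⟩ := exists_nice_le hnice V t ht
      exact ⟨W.1, ⟨W.2, hW⟩, htW, hWV⟩) O

include hnice hσ in
/-- The functions upstairs are those downstairs. -/
theorem isIso_unit : IsIso ((Scheme.Modules.pullbackPushforwardAdjunction σ).unit.app (Coh.structureModule Y)) := by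
  haveI : IsIso (Groth.PicAux.pushUnit σ) := Scheme.Modules.Hom.isIso_iff_isIso_app.mpr fun U =>
    (ConcreteCategory.isIso_iff_bijective _).mpr (bijective_app σ hnice hσ U)
  haveI := Groth.PicAux.isIso_pullUnit σ
  haveI : IsIso ((Scheme.Modules.pushforward σ).map (Groth.PicAux.pullUnit σ)) := inferInstance
  haveI : IsIso ((Scheme.Modules.pullbackPushforwardAdjunction σ).unit.app (Coh.structureModule Y) ≫
      (Scheme.Modules.pushforward σ).map (Groth.PicAux.pullUnit σ)) := by
    rw [Groth.PicAux.unit_pullUnit]; infer_instance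
  exact IsIso.of_isIso_comp_right _ ((Scheme.Modules.pushforward σ).map (Groth.PicAux.pullUnit σ))

end Global

end Groth.BlowUpVanish
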