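import Groth.Agent.BlowUpVanish.Glob
import Groth.Agent.BlowUpVanish.Sheaf

/-!
# Direct images of the powers of the exceptional ideal
-/

set_option autoImplicit false
set_option backward.isDefEq.respectTransparency.types false
set_option linter.style.haveILetI false
universe u

open CategoryTheory CategoryTheory.Limits AlgebraicGeometry TopologicalSpace Opposite
open Groth.BlowUpBasics RingTheory.Sequence
open Groth.CohBase (inter inter_le inter_comp)

namespace Groth.BlowUpVanish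

variable {X Y : Scheme.{u}}

/-- Functions in an ideal sheaf: they vanish on the closed subscheme. -/
def InI (I : X.IdealSheafData) (U : X.Opens) (t : Γ(X, U)) : Prop := I.subschemeι.app U t = 0

theorem inI_iff_mem (I : X.IdealSheafData) (W : X.affineOpens) (t : Γ(X, W.1)) :
    InI I W.1 t ↔ t ∈ I.ideal W := by
  rw [InI, ← Scheme.IdealSheafData.ker_subschemeι_app, RingHom.mem_ker]

theorem InI.res {I : X.IdealSheafData} {U V : X.Opens} {t : Γ(X, U)} (h : InI I U t) (hVU : V ≤ U) :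
    InI I V (X.presheaf.map (homOfLE hVU).op t) := by
  unfold InI at h ⊢
  refine (ConcreteCategory.congr_hom (I.subschemeι.naturality (homOfLE hVU).op) t).trans ?_
  change I.subscheme.presheaf.map _ (I.subschemeι.app U t) = 0
  rw [h, map_zero]

theorem inI_of_cover {I : X.IdealSheafData} {U : X.Opens} {t : Γ(X, U)}
    (h : ∀ z ∈ U, ∃ (V : X.Opens) (hVU : V ≤ U), z ∈ V ∧ InI I V (X.presheaf.map (homOfLE hVU).op t)) :
    InI I U t := by
  refine TopCat.Presheaf.section_ext I.subscheme.sheaf _ _ _ fun z hz => ?_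
  obtain ⟨V, hVU, hzV, hV⟩ := h _ hz
  have h1 := (ConcreteCategory.congr_hom (I.subschemeι.naturality (homOfLE hVU).op) t).symm.trans hV
  refine Eq.trans ?_ (map_zero _).symm
  refine (I.subscheme.presheaf.germ_res_apply (homOfLE (I.subschemeι.preimage_mono hVU)) z hzV _).symm.trans ?_
  exact (congrArg _ h1).trans (map_zero _)

theorem inI_iff_idealSect (I : X.IdealSheafData) (U : X.Opens) (t : Γ(X, U)) :
    InI I U t ↔ ∃ k : Γ(ClSub.idealMod I, U), OmegaSh.idealSect I U k = t :=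
  ⟨Groth.OmegaSheaf.exists_idealSect_eq I U t,
    fun ⟨k, hk⟩ => hk ▸ Groth.OmegaSheaf.subschemeι_app_idealSect I U k⟩

section Affine

variable {R : Type u} [CommRing R] {ι : Type u} {g : ι → R} {b : X ⟶ Spec (CommRingCat.of R)}

/-- A function on the base lying in the `m`-th power of the exceptional ideal is in the `m`-th power of
the centre. -/
theorem GoodJ.mem_pow (hG : GoodJ R g) (hG₀ : Good R g)
    (hb : BlowUp.IsBlowUp b (sheafOf (Ideal.span (Set.range g)))) (m : ℕ) (r : R)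
    (hr : InI ((sheafOf (Ideal.span (Set.range g))).comap b ^ m) ⊤ (phi b ⊤ r)) :
    r ∈ Ideal.span (Set.range g) ^ m := by
  obtain ⟨C, -, hCg⟩ := hG X b hb
  have hres : ∀ (x : Fin 1 → ι) (r : R),
      X.presheaf.map (homOfLE (le_top : C.V x ≤ ⊤)).op (phi b ⊤ r) = C.str x r := fun x r =>
    (RingHom.congr_fun (phi_restrict b (le_top : C.V x ≤ ⊤)) r).symm
  have hJ : ∀ x : Fin 1 → ι, C.str x r ∈ C.J m x := fun x => by
    have h := (inI_iff_mem _ ⟨C.V x, C.affine x⟩ _).1 (hr.res (le_top : C.V x ≤ ⊤))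
    rw [hres] at h
    rw [Scheme.IdealSheafData.ideal_pow, Pi.pow_apply,
      C.gen (x 0) ⟨C.V x, C.affine x⟩ (inter_le (X := X.toTopCat) C.U x 0),
      Ideal.span_singleton_pow] at h
    exact h
  obtain ⟨r', hr', hrr'⟩ := hCg m (fun x => C.str x r) hJ (funext fun x => C.d_str r x)
  suffices r = r' from this ▸ hr'
  refine (hG₀.bijective_phi hb).1 (TopCat.Presheaf.section_ext X.sheaf ⊤ _ _ fun z _ => ?_)
  obtain ⟨i, hi⟩ := Opens.mem_iSup.1 (C.cover.ge (Opens.mem_top z))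
  have hz : z ∈ C.V ![i] := by
    rw [Cov.V, Groth.CohBase.inter_one (X := X.toTopCat)]
    exact hi
  have key : ∀ u : Γ(X, ⊤), X.presheaf.germ ⊤ z trivial u =
      X.presheaf.germ (C.V ![i]) z hz (X.presheaf.map (homOfLE le_top).op u) :=
    fun u => (X.presheaf.germ_res_apply _ z hz u).symm
  exact (key _).trans ((congrArg _ ((hres ![i] r).trans ((hrr' ![i]).trans (hres ![i] r').symm))).trans
    (key _).symm)

end Affine

section Global

variable (σ : X ⟶ Y) {𝓘 : Y.IdealSheafData} (hσ : BlowUp.IsBlowUp σ 𝓘)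

theorem inI_app_of_mem (I : Y.IdealSheafData) {V : Y.affineOpens} {t : Γ(Y, V.1)}
    (ht : t ∈ I.ideal V) : InI (I.comap σ) (σ ⁻¹ᵁ V.1) (σ.app V.1 t) := by
  refine inI_of_cover fun z hz => ?_
  obtain ⟨_, ⟨W, hW, rfl⟩, hzW, hWV⟩ :=
    X.isBasis_affineOpens.exists_subset_of_mem_open hz (σ ⁻¹ᵁ V.1).2
  refine ⟨W, hWV, hzW, (inI_iff_mem _ ⟨W, hW⟩ _).2 ?_⟩
  rw [ideal_comap σ I V ⟨W, hW⟩ hWV]
  exact Ideal.mem_map_of_mem _ ht

include hσ in
/-- Over a nice open a function pulls back into the `m`-th power of the exceptional ideal iff it lies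
in the `m`-th power of the centre. -/
theorem inI_app_iff_of_nice (m : ℕ) {V : Y.affineOpens} (hV : Nice 𝓘 V) (t : Γ(Y, V.1)) :
    InI (𝓘 ^ m) V.1 t ↔ InI (𝓘.comap σ ^ m) (σ ⁻¹ᵁ V.1) (σ.app V.1 t) := by
  rw [inI_iff_mem]
  constructor
  · intro ht
    have h := inI_app_of_mem σ (𝓘 ^ m) ht
    rwa [Groth.Divisors.comap_pow] at h
  intro h
  rw [Scheme.IdealSheafData.ideal_pow, Pi.pow_apply]
  rcases hV with ⟨rs, hne, hrs, hid⟩ | hd
  · have hr : Ideal.span (Set.range (rs.get ∘ ULift.down.{u})) = 𝓘.ideal V := by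
      rw [hid, ULift.down_surjective.range_comp, Set.range_list_get]
    have hf : IsWeaklyRegular Γ(Y, V.1) (List.ofFn rs.get) := by rwa [List.ofFn_get]
    have hb : BlowUp.IsBlowUp (Groth.CohBase.preimageToSpec σ (V := V.1))
        (sheafOf (Ideal.span (Set.range (rs.get ∘ ULift.down.{u})))) := by
      rw [hr, ← HTopHyper.comap_fromSpec 𝓘 V]
      exact isBlowUp_of_isPullback hσ (Groth.CohBase.isPullback_preimageToSpec σ V.2).flip
    have hE : (sheafOf (Ideal.span (Set.range (rs.get ∘ ULift.down.{u})))).comap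
        (Groth.CohBase.preimageToSpec σ (V := V.1)) = 𝓘.comap ((σ ⁻¹ᵁ V.1).ι ≫ σ) := by
      rw [hr, ← HTopHyper.comap_fromSpec 𝓘 V, ← Scheme.IdealSheafData.comap_comp,
        (Groth.CohBase.isPullback_preimageToSpec σ V.2).w]
    rw [← hr]
    refine GoodJ.mem_pow (goodJ_of_isWeaklyRegular (List.length_pos_iff.2 hne) rs.get hf)
      (good_of_isWeaklyRegular (List.length_pos_iff.2 hne) rs.get hf) hb m t ?_
    rw [hE, Scheme.IdealSheafData.comap_comp, ← Groth.Divisors.comap_pow]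
    refine inI_of_cover fun z _ => ?_
    obtain ⟨_, ⟨W, hW, rfl⟩, hzW, hWT⟩ :=
      X.isBasis_affineOpens.exists_subset_of_mem_open z.2 (σ ⁻¹ᵁ V.1).2
    set T := (σ ⁻¹ᵁ V.1 : X.Opens) with hT
    have hW' : IsAffineOpen (T.ι ⁻¹ᵁ W) := hW.preimage_of_isOpenImmersion T.ι (by rwa [Scheme.Opens.opensRange_ι])
    refine ⟨T.ι ⁻¹ᵁ W, le_top, hzW, (inI_iff_mem _ ⟨_, hW'⟩ _).2 ?_⟩
    rw [ideal_comap T.ι _ ⟨W, hW⟩ ⟨_, hW'⟩ le_rfl]
    have hmem := (inI_iff_mem _ ⟨W, hW⟩ _).1 (h.res (show W ≤ T from hWT))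
    convert! Ideal.mem_map_of_mem (T.ι.appLE W (T.ι ⁻¹ᵁ W) le_rfl).hom hmem using 1
    have hb' : (σ.app V.1 t) = σ.appLE V.1 T le_rfl t := by rw [Scheme.Hom.app_eq_appLE]
    rw [hb']
    have e1 := ConcreteCategory.congr_hom (Scheme.Hom.appLE_map σ (U := V.1) (V := T) le_rfl
      (homOfLE (show W ≤ T from hWT)).op) t
    rw [ConcreteCategory.comp_apply] at e1
    rw [e1]
    have e2 := ConcreteCategory.congr_hom (Scheme.Hom.appLE_comp_appLE T.ι σ V.1 W (T.ι ⁻¹ᵁ W)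
      (show W ≤ σ ⁻¹ᵁ V.1 from hWT) le_rfl) t
    rw [ConcreteCategory.comp_apply] at e2
    rw [e2]
    refine (RingHom.congr_fun (phi_restrict (Groth.CohBase.preimageToSpec σ (V := V.1))
      (le_top : T.ι ⁻¹ᵁ W ≤ ⊤)) t).symm.trans ?_
    have key : ∀ (q : (T : Scheme.{u}) ⟶ Y) (hq : q = Groth.CohBase.preimageToSpec σ (V := V.1) ≫ V.2.fromSpec)
        (hle : T.ι ⁻¹ᵁ W ≤ q ⁻¹ᵁ V.1),
        q.appLE V.1 (T.ι ⁻¹ᵁ W) hle t = phi (Groth.CohBase.preimageToSpec σ (V := V.1)) (T.ι ⁻¹ᵁ W) t := by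
      rintro q rfl hle
      have hpre : (⊤ : (Spec Γ(Y, V.1)).Opens) ≤ V.2.fromSpec ⁻¹ᵁ V.1 := V.2.fromSpec_preimage_self.ge
      rw [← Scheme.Hom.appLE_comp_appLE (Groth.CohBase.preimageToSpec σ (V := V.1)) V.2.fromSpec V.1 ⊤
        (T.ι ⁻¹ᵁ W) hpre (le_preimage_top _ _), ConcreteCategory.comp_apply, phi]
      refine congrArg ((Groth.CohBase.preimageToSpec σ (V := V.1)).appLE ⊤ (T.ι ⁻¹ᵁ W) _) ?_
      rw [Scheme.Hom.appLE, IsAffineOpen.fromSpec_app_self, Category.assoc]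
      erw [← Functor.map_comp,
        Subsingleton.elim (((eqToHom V.2.fromSpec_preimage_self).op ≫ (homOfLE hpre).op)) (𝟙 _),
        CategoryTheory.Functor.map_id, Category.comp_id]
      rfl
    exact (key (T.ι ≫ σ) (Groth.CohBase.isPullback_preimageToSpec σ V.2).w _).symm
  · have htop : 𝓘.ideal V = ⊤ := by
      by_contra hne
      obtain ⟨P, hP, hIP⟩ := Ideal.exists_le_maximal _ hne
      let x : Spec Γ(Y, V.1) := ⟨P, hP.isPrime⟩
      have hxV : V.2.fromSpec x ∈ V.1 := by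
        rw [← SetLike.mem_coe, ← V.2.range_fromSpec]; exact ⟨x, rfl⟩
      refine Set.disjoint_left.1 hd ?_ hxV
      rw [SetLike.mem_coe, 𝓘.mem_support_iff_of_mem hxV, Scheme.mem_zeroLocus_iff]
      intro f hf hfx
      rw [← Scheme.Hom.mem_preimage, V.2.fromSpec_preimage_basicOpen] at hfx
      exact hfx (hIP hf)
    rw [htop, Ideal.top_pow]
    trivial

variable (hnice : ∀ y : Y, ∃ V : Y.affineOpens, y ∈ V.1 ∧ Nice 𝓘 V)

include hσ hnice in
theorem inI_app_iff (m : ℕ) (U : Y.Opens) (t : Γ(Y, U)) :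
    InI (𝓘 ^ m) U t ↔ InI (𝓘.comap σ ^ m) (σ ⁻¹ᵁ U) (σ.app U t) := by
  have hnat : ∀ {W : Y.Opens} (h : W ≤ U), σ.app W (Y.presheaf.map (homOfLE h).op t) =
      X.presheaf.map (homOfLE (σ.preimage_mono h)).op (σ.app U t) := fun h =>
    ConcreteCategory.congr_hom (σ.naturality (homOfLE h).op) t
  constructor
  · intro h
    refine inI_of_cover fun z hz => ?_
    obtain ⟨V, hzV, hVU, hV⟩ := exists_nice_le hnice U (σ z) hz
    refine ⟨σ ⁻¹ᵁ V.1, σ.preimage_mono hVU, hzV, ?_⟩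
    rw [← hnat hVU]
    exact (inI_app_iff_of_nice σ hσ m hV _).1 (h.res hVU)
  · intro h
    refine inI_of_cover fun y hy => ?_
    obtain ⟨V, hyV, hVU, hV⟩ := exists_nice_le hnice U y hy
    refine ⟨V.1, hVU, hyV, (inI_app_iff_of_nice σ hσ m hV _).2 ?_⟩
    rw [hnat hVU]
    exact h.res (σ.preimage_mono hVU)

omit σ in
/-- A module mapping injectively onto the functions in an ideal sheaf is that ideal. -/
theorem nonempty_iso_idealMod (I : Y.IdealSheafData) {M : Y.Modules} (α : M ⟶ Coh.structureModule Y)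
    (hinj : ∀ U, Function.Injective (α.app U))
    (him : ∀ (U : Y.Opens) (t : Γ(Y, U)), InI I U t ↔ ∃ k : Γ(M, U), OmegaSh.fnSect Y U (α.app U k) = t) :
    Nonempty (M ≅ ClSub.idealMod I) := by
  have h0 : α ≫ ClSub.toSubscheme I = 0 := by
    ext U k
    exact (him U _).2 ⟨k, rfl⟩
  let β : M ⟶ ClSub.idealMod I := kernel.lift _ α h0
  have hβ : ∀ (U : Y.Opens) (k : Γ(M, U)),
      OmegaSh.idealSect I U (β.app U k) = OmegaSh.fnSect Y U (α.app U k) := fun U k =>
    congrArg (OmegaSh.fnSect Y U) (congr(($(kernel.lift_ι _ α h0)).app U k))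
  haveI : IsIso β := Scheme.Modules.Hom.isIso_iff_isIso_app.mpr fun U =>
    (ConcreteCategory.isIso_iff_bijective _).mpr ⟨fun k k' h => hinj U
      (((hβ U k).symm.trans (congrArg (OmegaSh.idealSect I U) h)).trans (hβ U k')), fun j => by
      obtain ⟨k, hk⟩ := (him U _).1 ((inI_iff_idealSect I U _).2 ⟨j, rfl⟩)
      exact ⟨k, Groth.OmegaSheaf.idealSect_injective _ _ ((hβ U k).trans hk)⟩⟩
  exact ⟨asIso β⟩

include hσ hnice in
/-- The direct image of the `m`-th power of the exceptional ideal. -/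
theorem nonempty_push_pow_iso (m : ℕ) :
    Nonempty ((Scheme.Modules.pushforward σ).obj (ClSub.idealMod (𝓘.comap σ ^ m)) ≅
      ClSub.idealMod (𝓘 ^ m)) := by
  haveI : IsIso (Groth.PicAux.pushUnit σ) := Scheme.Modules.Hom.isIso_iff_isIso_app.mpr fun U =>
    (ConcreteCategory.isIso_iff_bijective _).mpr (bijective_app σ hnice hσ U)
  obtain ⟨α, hα⟩ : ∃ α : (Scheme.Modules.pushforward σ).obj (ClSub.idealMod (𝓘.comap σ ^ m)) ⟶
      Coh.structureModule Y, ∀ (U : Y.Opens) (k : Γ(ClSub.idealMod (𝓘.comap σ ^ m), σ ⁻¹ᵁ U)),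
      σ.app U (OmegaSh.fnSect Y U (α.app U k)) = OmegaSh.idealSect _ (σ ⁻¹ᵁ U) k :=
    ⟨(Scheme.Modules.pushforward σ).map (ClSub.idealModι (𝓘.comap σ ^ m)) ≫ inv (Groth.PicAux.pushUnit σ),
      fun U k => by
        have h1 : ((Scheme.Modules.pushforward σ).map (ClSub.idealModι (𝓘.comap σ ^ m)) ≫
            inv (Groth.PicAux.pushUnit σ)) ≫ Groth.PicAux.pushUnit σ =
            (Scheme.Modules.pushforward σ).map (ClSub.idealModι (𝓘.comap σ ^ m)) := by simp
        exact congr(($h1).app U k)⟩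
  have hinj : ∀ U, Function.Injective (α.app U) := fun U k k' h => by
    refine Groth.OmegaSheaf.idealSect_injective (𝓘.comap σ ^ m) (σ ⁻¹ᵁ U) ?_
    rw [← hα U k, ← hα U k']
    exact congrArg (fun z => σ.app U (OmegaSh.fnSect Y U z)) h
  refine nonempty_iso_idealMod (M := (Scheme.Modules.pushforward σ).obj (ClSub.idealMod (𝓘.comap σ ^ m)))
    (𝓘 ^ m) α hinj ?_
  intro U t
  rw [inI_app_iff σ hσ hnice m U t, inI_iff_idealSect]
  constructor
  · rintro ⟨k, hk⟩
    exact ⟨k, (bijective_app σ hnice hσ U).1 ((hα U k).trans hk)⟩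
  · rintro ⟨k, hk⟩
    exact ⟨k, (hα U k).symm.trans (congrArg (σ.app U) hk)⟩

end Global

end Groth.BlowUpVanish
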