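import Groth.Agent.BlowUpVanish.Cover
import Groth.Agent.BlowUpBasics.Global
import Groth.Agent.AdicLinTop.Thickenings
import Groth.Agent.ResolveSurf.PointContraction

/-!
# Cutting a blow-up by a regular function of the base
-/

set_option autoImplicit false
set_option backward.isDefEq.respectTransparency.types false
universe u

open CategoryTheory CategoryTheory.Limits AlgebraicGeometry TopologicalSpace Opposite
open Groth.BlowUpBasics
open Groth.CohBase (inter inter_le inter_comp)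

namespace Groth.BlowUpVanish

variable {R R' : Type u} [CommRing R] [CommRing R'] {ι : Type u}

/-- Vanishing of Čech cohomology of the powers of the exceptional ideal, and `R` as the functions. -/
def Good (R : Type u) [CommRing R] (g : ι → R) : Prop :=
  ∀ (X : Scheme.{u}) (b : X ⟶ Spec (CommRingCat.of R)),
    BlowUp.IsBlowUp b (sheafOf (Ideal.span (Set.range g))) →
      ∃ C : Cov g b, (∀ m, C.Exact m) ∧ C.Glob

namespace Cov

variable {X : Scheme.{u}} {g : ι → R} {b : X ⟶ Spec (CommRingCat.of R)} (C : Cov g b)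

/-- A function regular on the base is regular on the intersections. -/
theorem str_mem_nonZeroDivisors (hb : BlowUp.IsBlowUp b (sheafOf (Ideal.span (Set.range g))))
    {c : R} (hc : c ∈ nonZeroDivisors R) {n : ℕ} (x : Fin (n + 1) → ι) :
    C.str x c ∈ nonZeroDivisors Γ(X, C.V x) := by
  set e := ∏ a, g (x a) with he
  have hde : ∀ a, g (x a) ∣ e := fun a => Finset.dvd_prod_of_mem _ (Finset.mem_univ a)
  have hlex : b ⁻¹ᵁ PrimeSpectrum.basicOpen e ≤ C.V x := le_iInf fun a => by
    refine le_trans ?_ (C.mem (x a))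
    obtain ⟨w, hw⟩ := hde a
    intro z hz
    change b z ∈ PrimeSpectrum.basicOpen e at hz
    rw [hw] at hz
    exact PrimeSpectrum.basicOpen_mul_le_left _ _ hz
  have henz : C.str x e ∈ nonZeroDivisors Γ(X, C.V x) := by
    rw [he, map_prod]
    exact Submonoid.prod_mem _ fun a _ => C.mem_nonZeroDivisors hb.1 x a
  let O : (Spec (CommRingCat.of R)).Opens := PrimeSpectrum.basicOpen e
  have hdisj : Disjoint ((sheafOf (Ideal.span (Set.range g))).support : Set (Spec (CommRingCat.of R)))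
      (O : Set (Spec (CommRingCat.of R))) := by
    rw [Set.disjoint_left]
    intro z hz hzO
    obtain ⟨w, hw⟩ := hde 0
    have h : z ∈ PrimeSpectrum.basicOpen e := hzO
    rw [hw] at h
    refine PrimeSpectrum.basicOpen_mul_le_left (g (x 0)) w h ?_
    exact (mem_support_sheafOf _ z).1 hz (Ideal.subset_span ⟨x 0, rfl⟩)
  haveI : IsIso (b ∣_ O) := isIso_morphismRestrict hb O hdisj
  have happ : IsIso (b.app O) := Groth.ResolveSurf.PointContraction.isIso_app_of_isIso_restrict b O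
  rw [mem_nonZeroDivisors_iff_right]
  intro y hy
  let S := Γ(Spec (CommRingCat.of R), ⊤)
  let ι₀ : R →+* S := (Scheme.ΓSpecIso (CommRingCat.of R)).inv.hom
  let res₀ : S →+* Γ(Spec (CommRingCat.of R), O) :=
    ((Spec (CommRingCat.of R)).presheaf.map (homOfLE (le_top : O ≤ ⊤)).op).hom
  letI : Algebra S Γ(Spec (CommRingCat.of R), O) := res₀.toAlgebra
  haveI hloc₀ : IsLocalization.Away (ι₀ e) Γ(Spec (CommRingCat.of R), O) :=
    (isAffineOpen_top (Spec (CommRingCat.of R))).isLocalization_of_eq_basicOpen (ι₀ e)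
      (homOfLE (le_top : O ≤ ⊤)) (basicOpen_eq_of_affine (R := CommRingCat.of R) e).symm
  have hc₀ : ι₀ c ∈ nonZeroDivisors S :=
    Groth.BlowUpBasics.map_mem_nonZeroDivisors_of_flat (RingHom.Flat.of_bijective
      (ConcreteCategory.bijective_of_isIso (Scheme.ΓSpecIso (CommRingCat.of R)).inv)) hc
  let ρ : Γ(X, C.V x) →+* Γ(X, b ⁻¹ᵁ O) := (X.presheaf.map (homOfLE hlex).op).hom
  have hρ : ∀ r : R, ρ (C.str x r) = b.app O (res₀ (ι₀ r)) := fun r => by
    refine (RingHom.congr_fun (phi_restrict b hlex) r).symm.trans ?_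
    change b.appLE ⊤ (b ⁻¹ᵁ O) _ ((Scheme.ΓSpecIso (CommRingCat.of R)).inv r) = _
    rw [Scheme.Hom.app_eq_appLE]
    exact (ConcreteCategory.congr_hom (Scheme.Hom.map_appLE b (le_refl (b ⁻¹ᵁ O))
      (homOfLE (le_top : O ≤ ⊤)).op) _).symm
  obtain ⟨z, hz⟩ := (ConcreteCategory.bijective_of_isIso (b.app O)).2 (ρ y)
  have hz0 : z = 0 := by
    have h1 := congrArg ρ hy
    rw [map_mul, map_zero, hρ, ← hz, ← map_mul] at h1
    have h2 := (ConcreteCategory.bijective_of_isIso (b.app O)).1 (h1.trans (map_zero _).symm)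
    have hc₁ : res₀ (ι₀ c) ∈ nonZeroDivisors Γ(Spec (CommRingCat.of R), O) :=
      IsLocalization.map_nonZeroDivisors_le (Submonoid.powers (ι₀ e)) Γ(Spec (CommRingCat.of R), O)
        (Submonoid.mem_map_of_mem (algebraMap S Γ(Spec (CommRingCat.of R), O)) hc₀)
    exact mem_nonZeroDivisors_iff_right.1 hc₁ z h2
  have hbas : X.basicOpen (C.str x e) = b ⁻¹ᵁ O := by
    have h0 : X.basicOpen (C.str x e) = C.V x ⊓ b ⁻¹ᵁ
        (Spec (CommRingCat.of R)).basicOpen ((Scheme.ΓSpecIso (CommRingCat.of R)).inv e) := by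
      rw [Scheme.preimage_basicOpen]
      exact X.basicOpen_res _ (homOfLE (le_top : C.V x ≤ ⊤)).op
    rw [h0, basicOpen_eq_of_affine]
    exact inf_eq_right.2 hlex
  letI : Algebra Γ(X, C.V x) Γ(X, b ⁻¹ᵁ O) := ρ.toAlgebra
  haveI : IsLocalization.Away (C.str x e) Γ(X, b ⁻¹ᵁ O) :=
    (C.affine x).isLocalization_of_eq_basicOpen (C.str x e) (homOfLE hlex) hbas.symm
  have h3 : algebraMap Γ(X, C.V x) Γ(X, b ⁻¹ᵁ O) y = 0 := by
    change ρ y = 0
    rw [← hz, hz0, map_zero]
  obtain ⟨⟨_, N, rfl⟩, hN⟩ := (IsLocalization.map_eq_zero_iff (Submonoid.powers (C.str x e)) _ y).1 h3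
  exact (mul_left_mem_nonZeroDivisors_eq_zero_iff (pow_mem henz N)).1 hN

end Cov

variable (φ : R →+* R') {g : ι → R} {X X' : Scheme.{u}} {b : X ⟶ Spec (CommRingCat.of R)}
  {b' : X' ⟶ Spec (CommRingCat.of R')} {i : X' ⟶ X}

theorem phi_comp (w : i ≫ b = b' ≫ Spec.map (CommRingCat.ofHom φ)) {V : X.Opens} {W : X'.Opens}
    (e : W ≤ i ⁻¹ᵁ V) (r : R) : i.appLE V W e (phi b V r) = phi b' W (φ r) := by
  have h2 : ∀ {h : X' ⟶ Spec (CommRingCat.of R)}, h = i ≫ b →
      i.appLE V W e (phi b V r) = phi h W r := by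
    rintro _ rfl
    exact ConcreteCategory.congr_hom (Scheme.Hom.appLE_comp_appLE i b ⊤ V W (le_preimage_top b V) e) _
  rw [h2 w.symm]
  change (b' ≫ Spec.map (CommRingCat.ofHom φ)).appLE ⊤ W _ ((Scheme.ΓSpecIso (CommRingCat.of R)).inv r) = _
  rw [← Scheme.Hom.appLE_comp_appLE b' (Spec.map (CommRingCat.ofHom φ)) ⊤ ⊤ W le_top (le_preimage_top b' W),
    ConcreteCategory.comp_apply]
  refine congrArg (b'.appLE ⊤ W _) ?_
  exact RingHom.congr_fun (phi_Spec φ) r

theorem ker_of_isPullback (hφ : Function.Surjective φ)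
    (H : IsPullback i b' b (Spec.map (CommRingCat.ofHom φ))) :
    i.ker = (sheafOf (RingHom.ker φ)).comap b := by
  have : IsClosedImmersion (Spec.map (CommRingCat.ofHom φ)) :=
    IsClosedImmersion.spec_of_surjective _ hφ
  rw [Groth.AdicLinTop.Thickenings.ker_eq_comap_of_isPullback H, Groth.Agf.BlowUpExceptional.ker_SpecMap]

/-- The pulled back cover. -/
noncomputable def Cov.pullback (C : Cov g b) [IsAffineHom i]
    (w : i ≫ b = b' ≫ Spec.map (CommRingCat.ofHom φ)) : Cov (φ ∘ g) b' where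
  U k := i ⁻¹ᵁ C.U k
  cover := by rw [← Scheme.Hom.preimage_iSup, C.cover, Scheme.Hom.preimage_top]
  affineU k := (C.affineU k).preimage i
  affine {n} x := by
    have h : inter (X := X'.toTopCat) (fun k => i ⁻¹ᵁ C.U k) x = i ⁻¹ᵁ C.V x := by
      ext1
      simp [inter, Opens.coe_iInf, Set.preimage_iInter]
    exact h ▸ (C.affine x).preimage i
  gen k V hV := by
    have hspan : Ideal.span (Set.range (φ ∘ g)) = (Ideal.span (Set.range g)).map φ := by
      rw [Ideal.map_span, Set.range_comp]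
    rw [hspan, ← comap_sheafOf_Spec, ← Scheme.IdealSheafData.comap_comp, ← w,
      Scheme.IdealSheafData.comap_comp, ideal_comap i _ ⟨C.U k, C.affineU k⟩ V hV,
      C.gen k ⟨C.U k, C.affineU k⟩ le_rfl, Ideal.map_span, Set.image_singleton]
    exact congrArg (fun t => Ideal.span {t}) (phi_comp φ w hV (g k))
  mem k := by
    intro z hz
    refine C.mem k (?_ : b (i z) ∈ PrimeSpectrum.basicOpen (g k))
    rw [← Scheme.Hom.comp_apply, w]
    exact hz

section

variable [IsClosedImmersion i] (C : Cov g b) (w : i ≫ b = b' ≫ Spec.map (CommRingCat.ofHom φ))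

theorem V_pullback {n : ℕ} (x : Fin n → ι) : (C.pullback φ w).V x = i ⁻¹ᵁ C.V x := by
  ext1
  simp [Cov.V, inter, Cov.pullback, Opens.coe_iInf, Set.preimage_iInter]

/-- Restriction of functions to the closed subscheme. -/
noncomputable def resHom {n : ℕ} (x : Fin n → ι) : Γ(X, C.V x) →+* Γ(X', (C.pullback φ w).V x) :=
  (i.appLE (C.V x) ((C.pullback φ w).V x) (V_pullback φ C w x).le).hom

theorem resHom_str {n : ℕ} (x : Fin n → ι) (r : R) :
    resHom φ C w x (C.str x r) = (C.pullback φ w).str x (φ r) := phi_comp φ w _ r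

theorem resHom_face {n : ℕ} (x : Fin (n + 2) → ι) (a : Fin (n + 2)) (s : Γ(X, C.V (x ∘ a.succAbove))) :
    resHom φ C w x (C.face x a s) = (C.pullback φ w).face x a (resHom φ C w _ s) := by
  refine (ConcreteCategory.congr_hom (Scheme.Hom.map_appLE i _ _) s).trans ?_
  exact (ConcreteCategory.congr_hom (Scheme.Hom.appLE_map i _ _) s).symm

/-- Restriction of cochains. -/
noncomputable def resCo {n : ℕ} (s : C.Co n) : (C.pullback φ w).Co n := fun x => resHom φ C w x (s x)

theorem resCo_d {n : ℕ} (s : C.Co n) :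
    resCo φ C w (C.d n s) = (C.pullback φ w).d n (resCo φ C w s) := by
  funext x
  simp only [resCo, Cov.d_apply, map_sum, map_zsmul, resHom_face]

theorem resHom_surjective {n : ℕ} (x : Fin (n + 1) → ι) : Function.Surjective (resHom φ C w x) := by
  intro t
  let e := eqToHom (V_pullback φ C w x)
  obtain ⟨s, hs⟩ := i.app_surjective (C.V x) (C.affine x) ((X'.presheaf.map (eqToHom (V_pullback φ C w x).symm).op) t)
  refine ⟨s, ?_⟩
  change i.appLE _ _ _ s = t
  rw [Scheme.Hom.appLE, ConcreteCategory.comp_apply, hs, ← ConcreteCategory.comp_apply, ← Functor.map_comp]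
  simp

end

section

variable [IsClosedImmersion i] {C : Cov g b} {w : i ≫ b = b' ≫ Spec.map (CommRingCat.ofHom φ)} {c : R}

theorem resHom_eq_zero (hk : i.ker = (sheafOf (Ideal.span {c})).comap b) {n : ℕ} (x : Fin (n + 1) → ι)
    {s : Γ(X, C.V x)} : resHom φ C w x s = 0 ↔ C.str x c ∣ s := by
  have h1 : resHom φ C w x s = 0 ↔ i.app (C.V x) s = 0 := by
    change i.appLE _ _ _ s = 0 ↔ _
    rw [Scheme.Hom.appLE, ConcreteCategory.comp_apply]
    exact map_eq_zero_iff _ ((ConcreteCategory.bijective_of_isIso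
      (X'.presheaf.map (eqToHom (V_pullback φ C w x)).op)).1)
  rw [h1, ← RingHom.mem_ker, ← Scheme.Hom.ker_apply i ⟨C.V x, C.affine x⟩, hk, ideal_comap_sheafOf,
    Ideal.map_span, Set.image_singleton, Ideal.mem_span_singleton]

/-- The cochain-level step. -/
theorem exact_pullback (hb : BlowUp.IsBlowUp b (sheafOf (Ideal.span (Set.range g))))
    (hb' : BlowUp.IsEffCartierIdeal ((sheafOf (Ideal.span (Set.range (φ ∘ g)))).comap b'))
    (hk : i.ker = (sheafOf (Ideal.span {c})).comap b) (hc : c ∈ nonZeroDivisors R)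
    {m : ℕ} (hC : C.Exact m) : (C.pullback φ w).Exact m := by
  intro p s hs hds
  -- lift `s`
  have hlift : ∀ x, ∃ y : Γ(X, C.V x), y ∈ C.J m x ∧ resHom φ C w x y = s x := fun x => by
    obtain ⟨t, ht⟩ := Ideal.mem_span_singleton'.mp (hs x)
    obtain ⟨y, rfl⟩ := resHom_surjective φ C w x t
    refine ⟨y * C.str x (g (x 0)) ^ m, Ideal.mem_span_singleton'.mpr ⟨y, rfl⟩, ?_⟩
    rw [map_mul, map_pow, resHom_str]
    exact ht
  choose s₁ hs₁ hs₁' using hlift
  have hr : ∀ x, ∃ v, v ∈ C.J m x ∧ C.d (p + 1) s₁ x = C.str x c * v := fun x => by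
    obtain ⟨v, hv⟩ := Ideal.mem_span_singleton'.mp (C.inJ_d hs₁ x)
    have h0 : resHom φ C w x (C.d (p + 1) s₁ x) = 0 := by
      have := congrFun (resCo_d φ C w s₁) x
      rw [show resCo φ C w s₁ = s from funext hs₁', hds] at this
      exact this
    rw [← hv, map_mul, map_pow, resHom_str] at h0
    have h1 : resHom φ C w x v = 0 := (mul_right_mem_nonZeroDivisors_eq_zero_iff
      (pow_mem ((C.pullback φ w).mem_nonZeroDivisors hb' x 0) m)).1 h0
    obtain ⟨v', rfl⟩ := (resHom_eq_zero φ hk x).1 h1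
    exact ⟨v' * C.str x (g (x 0)) ^ m, Ideal.mem_span_singleton'.mpr ⟨v', rfl⟩, by rw [← hv, mul_assoc]⟩
  choose r hrJ hr using hr
  have hcancel : ∀ {n : ℕ} {u v : C.Co n}, C.mulR c u = C.mulR c v → u = v := fun {n} {u v} h =>
    funext fun x => (mul_cancel_left_mem_nonZeroDivisors (C.str_mem_nonZeroDivisors hb hc x)).1 (congrFun h x)
  have hd : C.d (p + 1) s₁ = C.mulR c r := funext hr
  have hdr : C.d (p + 2) r = 0 := by
    refine hcancel ?_
    rw [← C.d_mulR, ← hd, Cov.d_d]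
    funext x
    exact (mul_zero _).symm
  obtain ⟨q, hqJ, hq⟩ := hC (p + 1) r hrJ hdr
  let s₂ : C.Co (p + 1) := s₁ - C.mulR c q
  have hs₂ : C.InJ m s₂ := fun x => sub_mem (hs₁ x) (Ideal.mul_mem_left _ _ (hqJ x))
  have hds₂ : C.d (p + 1) s₂ = 0 := by rw [map_sub, C.d_mulR, hq, hd, sub_self]
  obtain ⟨t, htJ, ht⟩ := hC p s₂ hs₂ hds₂
  refine ⟨resCo φ C w t, fun x => ?_, ?_⟩
  · obtain ⟨y, hy⟩ := Ideal.mem_span_singleton'.mp (htJ x)
    refine Ideal.mem_span_singleton'.mpr ⟨resHom φ C w x y, ?_⟩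
    change _ = resHom φ C w x (t x)
    rw [← hy, map_mul, map_pow, resHom_str]
    rfl
  · rw [← resCo_d, ht]
    funext x
    change resHom φ C w x (s₁ x - C.str x c * q x) = _
    rw [map_sub, hs₁', (resHom_eq_zero φ hk x).2 (dvd_mul_right _ _), sub_zero]

theorem glob_pullback (hb : BlowUp.IsBlowUp b (sheafOf (Ideal.span (Set.range g))))
    (hk : i.ker = (sheafOf (Ideal.span {c})).comap b) (hc : c ∈ nonZeroDivisors R)
    (hφ : Function.Surjective φ) (hφc : φ c = 0)
    (hC : C.Exact 0) (hG : C.Glob) : (C.pullback φ w).Glob := by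
  have hcancel : ∀ {n : ℕ} {u v : C.Co n}, C.mulR c u = C.mulR c v → u = v := fun {n} {u v} h =>
    funext fun x => (mul_cancel_left_mem_nonZeroDivisors (C.str_mem_nonZeroDivisors hb hc x)).1 (congrFun h x)
  have hJ : ∀ {n : ℕ} (u : C.Co n), C.InJ 0 u := fun u x => by
    simp [Cov.J]
  constructor
  · intro s hs
    choose s₁ hs₁ using fun x => resHom_surjective φ C w x (s x)
    have hr : ∀ x, ∃ v, C.d 0 s₁ x = C.str x c * v := fun x => by
      refine (resHom_eq_zero φ (w := w) hk x (s := C.d 0 s₁ x)).1 ?_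
      have := congrFun (resCo_d φ C w s₁) x
      rw [show resCo φ C w s₁ = s from funext hs₁, hs] at this
      exact this
    choose r hr using hr
    have hd : C.d 0 s₁ = C.mulR c r := funext hr
    have hdr : C.d 1 r = 0 := by
      refine hcancel ?_
      rw [← C.d_mulR, ← hd, Cov.d_d]
      funext x
      exact (mul_zero _).symm
    obtain ⟨q, -, hq⟩ := hC 0 r (hJ r) hdr
    have hds : C.d 0 (s₁ - C.mulR c q) = 0 := by rw [map_sub, C.d_mulR, hq, hd, sub_self]
    obtain ⟨r₀, hr₀⟩ := hG.1 _ hds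
    refine ⟨φ r₀, fun x => ?_⟩
    rw [← resHom_str φ C w x, ← hr₀ x]
    change _ = resHom φ C w x (s₁ x - C.str x c * q x)
    rw [map_sub, hs₁, (resHom_eq_zero φ hk x).2 (dvd_mul_right _ _), sub_zero]
  · intro r' h
    obtain ⟨r, rfl⟩ := hφ r'
    have hv : ∀ x : Fin 1 → ι, ∃ v, C.str x r = C.str x c * v := fun x =>
      (resHom_eq_zero φ hk x).1 ((resHom_str φ C w x r).trans (h x))
    choose v hv using hv
    have hdv : C.d 0 v = 0 := by
      refine hcancel ?_
      rw [← C.d_mulR, show C.mulR c v = fun x => C.str x r from funext fun x => (hv x).symm]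
      funext x
      rw [Cov.d_str]
      exact (mul_zero _).symm
    obtain ⟨r₀, hr₀⟩ := hG.1 v hdv
    have h0 : r - c * r₀ = 0 := hG.2 _ fun x => by
      rw [map_sub, map_mul, hv x, hr₀ x, sub_self]
    rw [sub_eq_zero.1 h0, map_mul, hφc, zero_mul]

end

end Groth.BlowUpVanish
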