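import Groth.Agent.BlowUpVanish.Sheaf
import Groth.Agent.PicAux.FreeBasis
import Groth.Agent.PicAux.TensorLift
import Groth.Agent.PicAux.Powers
import Groth.Agent.ProjFormula.Derived
import Groth.Agent.CohBase.RpushAb
import Groth.Agent.CohBase.AffineHomCriterion
import Groth.Agent.CohC3.GradedVanishing

/-!
# Vanishing of higher direct images: twists and extensions
-/

set_option autoImplicit false
set_option backward.isDefEq.respectTransparency.types false
universe u

open CategoryTheory CategoryTheory.Limits AlgebraicGeometry TopologicalSpace Opposite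

namespace Groth.BlowUpVanish

variable {X Y : Scheme.{u}}

theorem nonempty_idealMod_one (X : Scheme.{u}) :
    Nonempty (ClSub.idealMod (1 : X.IdealSheafData) ≅ Coh.structureModule X) := by
  have h1 : BlowUp.IsEffCartierIdeal (1 : X.IdealSheafData) := Groth.Divisors.isEffCartierIdeal_top
  obtain ⟨e⟩ := Groth.PicAux.idealMod_mul h1 h1
  rw [mul_one] at e
  obtain ⟨M, -, hM⟩ := Groth.PicAux.exists_isInverseOf (Groth.PicAux.isInvertible_idealMod h1)
  obtain ⟨t⟩ := Groth.PicAux.isInverseOf_symm hM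
  let A := ClSub.idealMod (1 : X.IdealSheafData)
  obtain ⟨lu, -⟩ := Groth.PicAux.exists_leftUnitor A
  exact ⟨lu.symm ≪≫ PicGrp.tensorModIso t.symm (Iso.refl A) ≪≫
    (Groth.PicAux.exists_associator M A A).choose ≪≫ PicGrp.tensorModIso (Iso.refl M) e ≪≫ t⟩

theorem isZero_RpushAb_congr (σ : X ⟶ Y) {p : ℕ} {M N : X.Modules} (e : M ≅ N)
    (h : IsZero ((Coh.RpushAb σ p).obj (Coh.toAb M))) : IsZero ((Coh.RpushAb σ p).obj (Coh.toAb N)) :=
  h.of_iso (((Coh.RpushAb σ p).mapIso ((SheafOfModules.toSheaf X.ringCatSheaf).mapIso e)).symm)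

/-- Vanishing over neighbourhoods gives vanishing of the higher direct image. -/
theorem isZero_RpushAb_of_subsingleton (σ : X ⟶ Y) [QuasiCompact σ] [QuasiSeparated σ] (M : X.Modules)
    [M.IsQuasicoherent] (p : ℕ)
    (h : ∀ y : Y, ∃ V : Y.affineOpens, y ∈ V.1 ∧
      Subsingleton (Coh.HH (σ ⁻¹ᵁ V.1 : X.Opens) (M.restrict (σ ⁻¹ᵁ V.1).ι) p)) :
    IsZero ((Coh.RpushAb σ p).obj (Coh.toAb M)) := by
  refine Groth.SiteCohomology.SubSheafGerms.isZero_of_stalks fun y a => ?_
  obtain ⟨V, hyV, hV⟩ := h y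
  have hz := Groth.Limits.FibreVanishing.isZero_stalk_RpushAb σ M p V.2 y hyV
    (fun ξ => ⟨1, by rw [Scheme.basicOpen_of_isUnit _ isUnit_one]; exact hyV, Subsingleton.elim _ _⟩)
  have hz2 := (Groth.SiteCohomology.isZero_sfib_iff ((Coh.RpushAb σ p).obj (Coh.toAb M)) y).2
    ((Groth.SiteCohomology.isZero_stalk_iff _ y).1 hz)
  exact @Subsingleton.elim _ (AddCommGrpCat.subsingleton_of_isZero hz2) a 0

variable (σ : X ⟶ Y) {𝓘 : Y.IdealSheafData}
  (hnice : ∀ y : Y, ∃ V : Y.affineOpens, y ∈ V.1 ∧ Nice 𝓘 V) (hσ : BlowUp.IsBlowUp σ 𝓘)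

include hnice hσ in
theorem subsingleton_HH_structure (p : ℕ) {V : Y.affineOpens} (hV : Nice 𝓘 V) :
    Subsingleton (Coh.HH (σ ⁻¹ᵁ V.1 : X.Opens)
      ((Coh.structureModule X).restrict (σ ⁻¹ᵁ V.1).ι) (p + 1)) := by
  obtain ⟨e⟩ := nonempty_idealMod_one X
  have h := subsingleton_HH_preimage σ hnice hσ 0 p hV
  rw [pow_zero] at h
  exact Groth.ResolveSurf.RegularRational.subsingleton_HH_of_iso
    ((Scheme.Modules.restrictFunctor (σ ⁻¹ᵁ V.1).ι).mapIso e).symm _ h

include hnice hσ in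
theorem isZero_RpushAb_structure [QuasiCompact σ] [QuasiSeparated σ] {p : ℕ} (hp : 1 ≤ p) :
    IsZero ((Coh.RpushAb σ p).obj (Coh.toAb (Coh.structureModule X))) := by
  obtain ⟨e⟩ := nonempty_idealMod_one X
  have h := isZero_RpushAb σ hnice hσ 0 hp
  rw [pow_zero] at h
  exact isZero_RpushAb_congr σ e h

omit hnice hσ in
/-- Twisting by a finite locally free module of the base. -/
theorem isZero_RpushAb_tensor {E : Y.Modules} (hE : FlatMod.IsFinLocFree E) (F : X.Modules) (p : ℕ)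
    (h : IsZero ((Coh.RpushAb σ p).obj (Coh.toAb F))) :
    IsZero ((Coh.RpushAb σ p).obj (Coh.toAb (CohB1.tensorMod ((Scheme.Modules.pullback σ).obj E) F))) := by
  obtain ⟨e⟩ := Groth.CohBase.nonempty_toAb_Rpush_iso σ p (M := F)
  have hR : IsZero ((Coh.Rpush σ p).obj F) := by
    rw [IsZero.iff_id_eq_zero]
    haveI : (Groth.CohBase.toAbF Y).Faithful := inferInstanceAs (SheafOfModules.toSheaf.{u} Y.ringCatSheaf).Faithful
    exact (Groth.CohBase.toAbF Y).map_injective ((h.of_iso e).eq_of_src _ _)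
  obtain ⟨e'⟩ := Groth.ProjFormula.nonempty_projectionFormula σ F E hE p
  obtain ⟨b, -⟩ := Groth.PicAux.exists_braiding E ((Coh.Rpush σ p).obj F)
  haveI := Groth.ProjFormula.additive_tF E
  have hT : IsZero ((Groth.CohTwo.SheafHomIso.tF E).obj ((Coh.Rpush σ p).obj F)) := Functor.map_isZero _ hR
  obtain ⟨e''⟩ := Groth.CohBase.nonempty_toAb_Rpush_iso σ p
    (M := CohB1.tensorMod ((Scheme.Modules.pullback σ).obj E) F)
  exact ((Groth.CohBase.toAbF Y).map_isZero (hT.of_iso e'.symm)).of_iso e''.symm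

include hnice hσ in
/-- Pullbacks of finite locally free modules. -/
theorem isZero_RpushAb_pullback [QuasiCompact σ] [QuasiSeparated σ] {E : Y.Modules}
    (hE : FlatMod.IsFinLocFree E) {p : ℕ} (hp : 1 ≤ p) :
    IsZero ((Coh.RpushAb σ p).obj (Coh.toAb ((Scheme.Modules.pullback σ).obj E))) := by
  obtain ⟨b, -⟩ := Groth.PicAux.exists_braiding ((Scheme.Modules.pullback σ).obj E) (Coh.structureModule X)
  obtain ⟨l, -⟩ := Groth.PicAux.exists_leftUnitor ((Scheme.Modules.pullback σ).obj E)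
  exact isZero_RpushAb_congr σ (b ≪≫ l)
    (isZero_RpushAb_tensor σ hE _ p (isZero_RpushAb_structure σ hnice hσ hp))

include hnice hσ in
theorem isIso_unit_finLocFree {E : Y.Modules} (hE : FlatMod.IsFinLocFree E) :
    IsIso ((Scheme.Modules.pullbackPushforwardAdjunction σ).unit.app E) :=
  Groth.PicAux.isIso_unit_of_finLocFree σ (bijective_app σ hnice hσ) hE

end Groth.BlowUpVanish
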