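import Groth.Agent.BlowUpVanish.Push
import Groth.Agent.BlowUpVanish.HHPush
import Groth.Agent.BlowUpVanish.PointPow
import Groth.Agent.BlowUpVanish.Point
import Groth.Agent.BlowUpVanish.Twist
import Groth.Agent.Inter.Twist
import Groth.Agent.Inter.Chi
import Groth.Agent.RefRank.DivSheaf
import Groth.Agent.DegMono.StalkSum
import Groth.Agent.PnCoh.ProjectionFormula
import Groth.Agent.EulerDeg.LineBundle

/-!
# Euler characteristics on the blow-up of a point of a surface
-/

set_option autoImplicit false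
set_option backward.isDefEq.respectTransparency.types false
universe u

open CategoryTheory CategoryTheory.Limits AlgebraicGeometry TopologicalSpace Opposite

namespace Groth.BlowUpVanish

variable {k : Type u} [Field k] [IsAlgClosed k] {X Y : Scheme.{u}} [Y.Over (Spec (CommRingCat.of k))]
  [IsProper (Y ↘ Spec (CommRingCat.of k))] [X.Over (Spec (CommRingCat.of k))]

/-- Line bundles from below twisted by the exceptional ideal of a point blown up. -/
theorem euler_pullback_twist (p : Y) (hp : IsClosed ({p} : Set Y))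
    [IsRegularLocalRing (Y.presheaf.stalk p)] (hdim : ringKrullDim (Y.presheaf.stalk p) = 2)
    (σ : X ⟶ Y) (hσk : σ ≫ (Y ↘ Spec (CommRingCat.of k)) = X ↘ Spec (CommRingCat.of k))
    (hσ : BlowUp.IsBlowUp σ (Scheme.IdealSheafData.vanishingIdeal ⟨{p}, hp⟩))
    {L : Y.Modules} (hL : PicF.IsInvertible L) (b : ℕ) :
    Curv2.euler k X (CohB1.tensorMod ((Scheme.Modules.pullback σ).obj L)
      (ClSub.idealMod ((BlowUp.exceptional σ (Scheme.IdealSheafData.vanishingIdeal ⟨{p}, hp⟩)) ^ b))) =
      Curv2.euler k Y L - ((b + 1).choose 2 : ℕ) := by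
  set I := Scheme.IdealSheafData.vanishingIdeal (X := Y) ⟨{p}, hp⟩ with hI
  haveI hN : IsNoetherian Y := Groth.Inter.isNoetherian k
  haveI : IsLocallyNoetherian Y := hN.toIsLocallyNoetherian
  haveI : IsProper σ := HTopHyper.isProper_of_isBlowUp hσ fun U => by
    haveI := IsLocallyNoetherian.component_noetherian U
    exact IsNoetherian.noetherian _
  have hn := nice_of_point p hp (by rw [hdim]; decide)
  have hLf : FlatMod.IsFinLocFree L :=
    Groth.LocFree.isFinLocFree_of_rank (Groth.LocFree.isInvertible_iff_ofRank_one.1 hL)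
  have hA : ∀ n : ℕ, IsZero ((Coh.RpushAb σ (n + 1)).obj (Coh.toAb
      (CohB1.tensorMod ((Scheme.Modules.pullback σ).obj L) (ClSub.idealMod (I.comap σ ^ b))))) := fun n =>
    isZero_RpushAb_tensor σ hLf _ _ (isZero_RpushAb σ hn hσ b (Nat.succ_pos n))
  change Curv2.euler k X (CohB1.tensorMod ((Scheme.Modules.pullback σ).obj L)
    (ClSub.idealMod (I.comap σ ^ b))) = _
  rw [euler_push_of_acyclic σ hσk _ hA]
  obtain ⟨eP, -⟩ := Groth.PnCoh.exists_projectionFormula σ (ClSub.idealMod (I.comap σ ^ b)) hL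
  obtain ⟨eb, -⟩ := Groth.PicAux.exists_braiding ((Scheme.Modules.pullback σ).obj L)
    (ClSub.idealMod (I.comap σ ^ b))
  obtain ⟨eI⟩ := nonempty_push_pow_iso σ hσ hn b
  rw [EulerDeg.euler_congr k ((Scheme.Modules.pushforward σ).mapIso eb ≪≫ eP.symm ≪≫
    PicGrp.tensorModIso eI (Iso.refl L))]
  have hJ : Coh.IsCoh (ClSub.idealMod (I ^ b)) := Groth.RefRank.isCoh_idealMod (I ^ b)
  have hQ : Coh.IsCoh (ClSub.quotMod (I ^ b)) := Groth.DegMono.isCoh_quotMod (I ^ b)
  have h := Groth.Inter.euler_add k (Groth.PicAux.shortExact_idealMod_twist (I ^ b) hL)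
    (Groth.RefRank.isCoh_tensorMod hJ (EulerDeg.isCoh_of_isInvertible hL))
    (Groth.RefRank.isCoh_tensorMod hQ (EulerDeg.isCoh_of_isInvertible hL))
  obtain ⟨l, -⟩ := Groth.PicAux.exists_leftUnitor L
  change Curv2.euler k Y (CohB1.tensorMod (Coh.structureModule Y) L) =
    Curv2.euler k Y (CohB1.tensorMod (ClSub.idealMod (I ^ b)) L) +
      Curv2.euler k Y (CohB1.tensorMod (ClSub.quotMod (I ^ b)) L) at h
  rw [EulerDeg.euler_congr k l] at h
  have hsupp : EulerDeg.SupportedAtClosed (ClSub.quotMod (I ^ b)) := fun y hy => by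
    rw [(Groth.Inter.support_quotMod (k := k) (I ^ b)).2] at hy
    obtain rfl : y = p := by
      rcases Nat.eq_zero_or_pos b with rfl | hb
      · rw [pow_zero, Scheme.IdealSheafData.one_eq_top, Scheme.IdealSheafData.support_top] at hy
        exact absurd hy (Set.notMem_empty y)
      · rw [Scheme.IdealSheafData.support_pow _ b (by omega)] at hy
        exact hy
    exact hp
  rw [Groth.EulerDeg.euler_tensor_of_supportedAtClosed k hQ hsupp (n := 1)
    (Groth.LocFree.isInvertible_iff_ofRank_one.1 hL), euler_quotMod_pow p hp hdim b, Nat.cast_one,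
    one_mul] at h
  linarith

end Groth.BlowUpVanish
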